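import Cfsg.Agent.Lib.OddOrder.S9a.Data
import Cfsg.Agent.Lib.MinSimpleOdd.PrimeAction

/-!
Peterfalvi (9.4)-(9.6): the chief factor `H/H0` and the kernel `C` of the action of `U` on it.
-/

set_option autoImplicit false
set_option linter.unusedSectionVars false
set_option linter.style.haveILetI false

namespace CfsgLib.OddOrder.S9

open Subgroup Cfsg CfsgLib.MinSimpleOdd
open scoped Pointwise commutatorElement

universe u

variable {G : Type u} [Group G]

/-- The elements normalising `N` that fix `h` modulo `N`. -/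
def modFixer (N : Subgroup G) (h : G) : Subgroup G where
  carrier := {a | a ∈ normalizer (N : Set G) ∧ a * h * a⁻¹ * h⁻¹ ∈ N}
  one_mem' := ⟨one_mem _, by simp⟩
  mul_mem' := fun {a b} ha hb => ⟨mul_mem ha.1 hb.1, by
    rw [show a * b * h * (a * b)⁻¹ * h⁻¹ = a * (b * h * b⁻¹ * h⁻¹) * a⁻¹ * (a * h * a⁻¹ * h⁻¹) by group]
    exact N.mul_mem ((mem_normalizer_iff.mp ha.1 _).mp hb.2) ha.2⟩
  inv_mem' := fun {a} ha => ⟨inv_mem ha.1, by
    have := (mem_normalizer_iff.mp (inv_mem ha.1) _).mp (N.inv_mem ha.2)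
    rw [show a⁻¹ * (a * h * a⁻¹ * h⁻¹)⁻¹ * a⁻¹⁻¹ = a⁻¹ * h * a⁻¹⁻¹ * h⁻¹ by group] at this
    exact this⟩

theorem mem_modFixer {N : Subgroup G} {h a : G} :
    a ∈ modFixer N h ↔ a ∈ normalizer (N : Set G) ∧ a * h * a⁻¹ * h⁻¹ ∈ N := Iff.rfl

/-- `C`, the kernel of the action of `U` on `H/H0`. -/
def kernelC (H U H0 : Subgroup G) : Subgroup G :=
  U ⊓ ⨅ h : H, modFixer H0 (h : G)

/-- `H0`: a maximal `M`-invariant proper subgroup of `H` containing `H'` and `C_H(U)`. -/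
structure IsCoreKernel (M H U H0 : Subgroup G) : Prop where
  le : H0 ≤ H
  ne : H0 ≠ H
  normal : M ≤ normalizer (H0 : Set G)
  derived : (⁅H, H⁆ : Subgroup G) ≤ H0
  fixed : H ⊓ centralizer (U : Set G) ≤ H0
  maximal : ∀ N : Subgroup G, H0 < N → N < H → ¬ M ≤ normalizer (N : Set G)

theorem mem_normalizer_of_conj [Finite G] {N : Subgroup G} {g : G} (h : ∀ x ∈ N, g * x * g⁻¹ ∈ N) :
    g ∈ normalizer (N : Set G) := mem_normalizer_of_conj_smul (eq_of_le_of_card_ge (fun y hy => by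
      obtain ⟨x, hx, rfl⟩ := hy
      exact h x hx) (le_of_eq (CfsgLib.card_conj_smul g N).symm))

theorem le_normalizer_derived_self [Finite G] {H A : Subgroup G} (h : A ≤ normalizer (H : Set G)) :
    A ≤ normalizer ((⁅H, H⁆ : Subgroup G) : Set G) := fun a ha => mem_normalizer_of_conj_smul (by
  have h1 : MulAut.conj a • (⁅H, H⁆ : Subgroup G) = ⁅MulAut.conj a • H, MulAut.conj a • H⁆ :=
    Subgroup.map_commutator _ _ _
  rw [h1, conj_smul_eq_of_mem_normalizer (h ha)])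

/-- In a finite nilpotent group the derived subgroup has no proper supplement. -/
theorem eq_of_derived_sup [Finite G] {H X : Subgroup G} (hn : Group.IsNilpotent H) (hX : X ≤ H)
    (h : H ≤ ⁅H, H⁆ ⊔ X) : H ≤ X := by
  haveI := hn
  by_contra hne
  have hne' : X.subgroupOf H ≠ ⊤ := fun e => hne (subgroupOf_eq_top.mp e)
  obtain ⟨K, hK, hXK⟩ := (eq_top_or_exists_le_coatom (X.subgroupOf H)).resolve_left hne'
  haveI : K.Normal := NormalizerCondition.normal_of_coatom K Group.normalizerCondition_of_isNilpotent hK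
  haveI : Nontrivial (↥H ⧸ K) := QuotientGroup.nontrivial_iff.mpr hK.1
  have hlt := Group.IsSolvable.commutator_lt_top_of_nontrivial (↥H ⧸ K)
  have hle : K ≤ (commutator (↥H ⧸ K)).comap (QuotientGroup.mk' K) :=
    le_trans (le_of_eq (QuotientGroup.ker_mk' K).symm) (ker_le_comap _ _)
  have hK' : commutator ↥H ≤ K := by
    rcases hK.le_iff.mp hle with e | e
    · exact absurd (comap_injective (QuotientGroup.mk'_surjective K) (e.trans (comap_top _).symm)) hlt.ne
    · rw [← e, ← map_le_iff_le_comap, commutator_def, map_commutator]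
      exact commutator_mono le_top le_top
  refine hK.1 (eq_top_iff.mpr fun x _ => ?_)
  have hle2 : ⁅H, H⁆ ⊔ X ≤ K.map H.subtype := by
    refine sup_le ?_ fun y hy => ⟨⟨y, hX hy⟩, hXK hy, rfl⟩
    calc ⁅H, H⁆ = (commutator ↥H).map H.subtype := (map_subtype_commutator H).symm
      _ ≤ K.map H.subtype := map_mono hK'
  obtain ⟨y, hy, hye⟩ := hle2 (h x.2)
  rwa [← H.subtype_injective hye]

variable [Finite G] {M H U W1 W2 H0 : Subgroup G} {q : ℕ}

namespace TypeData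

variable (d : TypeData M H U W1 W2 q)
include d

/-- PF (9.4): existence of `H0`. -/
theorem exists_coreKernel : ∃ H0, IsCoreKernel M H U H0 := by
  classical
  set X : Subgroup G := ⁅H, H⁆ ⊔ (H ⊓ centralizer (U : Set G)) with hX
  have hXH : X ≤ H := sup_le (commutator_le_self H) inf_le_left
  have hne : X ≠ H := fun e => d.moves (le_centralizer_iff.mp
    ((eq_of_derived_sup d.H_nil inf_le_left e.ge).trans inf_le_right))
  have hXn : M ≤ normalizer (X : Set G) := by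
    refine d.le_normalizer ?_ ?_ ?_
    · intro h hh
      refine mem_normalizer_of_conj fun x hx => ?_
      have h1 : h * x * h⁻¹ * x⁻¹ ∈ X := mem_sup_left (by
        have := Subgroup.commutator_mem_commutator hh (hXH hx)
        simpa [commutatorElement_def] using this)
      simpa using X.mul_mem h1 hx
    · exact (le_inf (le_normalizer_derived_self (d.U_le.trans d.H_normal))
        ((le_inf (d.U_le.trans d.H_normal) (Subgroup.le_normalizer.trans (normalizer_le_normalizer_centralizer U))).trans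
          inf_normalizer_le_normalizer_inf)).trans (normalizer_inf_normalizer_le_normalizer_sup _ _)
    · exact (le_inf (le_normalizer_derived_self (d.W_le.trans d.H_normal))
        ((le_inf (d.W_le.trans d.H_normal) (d.U_norm.trans (normalizer_le_normalizer_centralizer U))).trans
          inf_normalizer_le_normalizer_inf)).trans (normalizer_inf_normalizer_le_normalizer_sup _ _)
  obtain ⟨H0, hle, ⟨hH, hne', hn⟩, hmax⟩ := (Set.toFinite {N : Subgroup G | N ≤ H ∧ N ≠ H ∧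
    M ≤ normalizer (N : Set G)}).exists_le_maximal (show X ∈ _ from ⟨hXH, hne, hXn⟩)
  exact ⟨H0, hH, hne', hn, le_sup_left.trans hle, le_sup_right.trans hle,
    fun N h1 h2 hN => h1.not_ge (hmax ⟨h2.le, h2.ne, hN⟩ h1.le)⟩

end TypeData

namespace IsCoreKernel

variable (k : IsCoreKernel M H U H0) (d : TypeData M H U W1 W2 q)
include k d

theorem H_normalizes : H ≤ normalizer (H0 : Set G) := d.H_le.trans k.normal

theorem U_normalizes : U ≤ normalizer (H0 : Set G) := d.U_le.trans k.normal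

theorem W_normalizes : W1 ≤ normalizer (H0 : Set G) := d.W_le.trans k.normal

/-- A subgroup between `H0` and `H` invariant under `U` and `W1` is `H0` or `H`. -/
theorem eq_or_eq {N : Subgroup G} (h1 : H0 ≤ N) (h2 : N ≤ H) (hU : U ≤ normalizer (N : Set G))
    (hW : W1 ≤ normalizer (N : Set G)) : N = H0 ∨ N = H := by
  have hH : H ≤ normalizer (N : Set G) := fun h hh => mem_normalizer_of_conj fun x hx => by
    have h3 : h * x * h⁻¹ * x⁻¹ ∈ N := h1 (k.derived (by
      have := Subgroup.commutator_mem_commutator hh (h2 hx)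
      simpa [commutatorElement_def] using this))
    simpa using N.mul_mem h3 hx
  by_contra hne
  push Not at hne
  exact k.maximal N (lt_of_le_of_ne h1 hne.1.symm) (lt_of_le_of_ne h2 hne.2) (d.le_normalizer hH hU hW)

/-- PF (9.5): `H/H0` has exponent `p` and order `p ^ q`. -/
theorem exists_prime : ∃ p : ℕ, p.Prime ∧ (∀ h ∈ H, h ^ p ∈ H0) ∧ Nat.card H = Nat.card H0 * p ^ q ∧
    Nat.card W2 = p * Nat.card ↥(W2 ⊓ H0) ∧ Odd p ∧ p ≠ q ∧ ¬ p ∣ Nat.card U ∧ p ∣ Nat.card H := by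
  classical
  have hHn := k.H_normalizes d
  haveI : (H0.subgroupOf H).Normal := (normal_subgroupOf_iff_le_normalizer k.le).mpr hHn
  letI : CommGroup (↥H ⧸ H0.subgroupOf H) :=
    { (inferInstance : Group (↥H ⧸ H0.subgroupOf H)) with
      mul_comm := fun a b => by
        refine QuotientGroup.induction_on a fun a => QuotientGroup.induction_on b fun b => ?_
        rw [← QuotientGroup.mk_mul, ← QuotientGroup.mk_mul]
        refine QuotientGroup.eq.mpr (mem_subgroupOf.mpr (k.derived ?_))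
        have := Subgroup.commutator_mem_commutator (H.inv_mem b.2) (H.inv_mem a.2)
        simpa [commutatorElement_def, mul_assoc] using this }
  have hidx : 1 < (H0.subgroupOf H).index := by
    refine Nat.one_lt_iff_ne_zero_and_ne_one.mpr ⟨FiniteIndex.index_ne_zero, fun e => k.ne
      (le_antisymm k.le (subgroupOf_eq_top.mp (index_eq_one.mp e)))⟩
  obtain ⟨p, hp, hpd⟩ := Nat.exists_prime_and_dvd hidx.ne'
  haveI := Fact.mk hp
  obtain ⟨z, hz⟩ := exists_prime_orderOf_dvd_card' (G := ↥H ⧸ H0.subgroupOf H) p hpd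
  let K : Subgroup G :=
    (((powMonoidHom p : (↥H ⧸ H0.subgroupOf H) →* (↥H ⧸ H0.subgroupOf H)).ker).comap
      (QuotientGroup.mk' (H0.subgroupOf H))).map H.subtype
  have hK : ∀ x, x ∈ K ↔ x ∈ H ∧ x ^ p ∈ H0 := fun x => by
    constructor
    · rintro ⟨y, hy, rfl⟩
      refine ⟨y.2, ?_⟩
      have hy' : ((y ^ p : ↥H) : ↥H ⧸ H0.subgroupOf H) = 1 := (QuotientGroup.mk_pow _ y p).trans hy
      exact mem_subgroupOf.mp ((QuotientGroup.eq_one_iff _).mp hy')
    · rintro ⟨hx, hx'⟩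
      exact ⟨⟨x, hx⟩, (QuotientGroup.mk_pow _ _ p).symm.trans ((QuotientGroup.eq_one_iff _).mpr hx'), rfl⟩
  have hKH : K ≤ H := fun x hx => ((hK x).mp hx).1
  have hKn : ∀ g ∈ M, g ∈ normalizer (K : Set G) := fun g hg => mem_normalizer_of_conj fun x hx => by
    obtain ⟨h1, h2⟩ := (hK x).mp hx
    refine (hK _).mpr ⟨(mem_normalizer_iff.mp (d.H_normal hg) x).mp h1, ?_⟩
    rw [conj_pow]
    exact (mem_normalizer_iff.mp (k.normal hg) _).mp h2
  have h0K : H0 ≤ K := fun x hx => (hK x).mpr ⟨k.le hx, H0.pow_mem hx p⟩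
  have hexp : ∀ h ∈ H, h ^ p ∈ H0 := by
    rcases k.eq_or_eq d h0K hKH (fun g hg => hKn g (d.U_le hg)) (fun g hg => hKn g (d.W_le hg)) with e | e
    · exfalso
      obtain ⟨y, rfl⟩ := QuotientGroup.mk'_surjective _ z
      have h1 : (y : G) ∈ K := ⟨y, show (QuotientGroup.mk' (H0.subgroupOf H) y) ^ p = 1 by
        rw [← hz]; exact pow_orderOf_eq_one _, rfl⟩
      rw [e] at h1
      rw [(QuotientGroup.eq_one_iff y).mpr (mem_subgroupOf.mpr h1) |> fun h =>
        show QuotientGroup.mk' (H0.subgroupOf H) y = 1 from h, orderOf_one] at hz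
      exact hp.ne_one hz.symm
    · exact fun h hh => ((hK h).mp (e.ge hh)).2
  haveI := d.U_nil
  have hn0 : U ⊔ W1 ≤ normalizer (H0 : Set G) := sup_le (k.U_normalizes d) (k.W_normalizes d)
  have hsol : Group.IsSolvable H0 := by
    haveI := d.solvable_H
    exact Group.isSolvable_of_isSolvable_injective (f := inclusion k.le) (inclusion_injective _)
  have h0 := CfsgLib.FrobAction.order_formula U W1 d.U_norm d.fpf' H0 hn0
    (d.cop_UW.coprime_dvd_right (card_dvd_of_le k.le)) hsol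
  have eU : H0 ⊓ centralizer (U : Set G) = H ⊓ centralizer (U : Set G) :=
    le_antisymm (inf_le_inf_right _ k.le) (le_inf k.fixed inf_le_right)
  have eX : H0 ⊓ centralizer ((U ⊔ W1 : Subgroup G) : Set G) = W2 ⊓ centralizer (U : Set G) := by
    rw [← d.centralizer_UW_eq]
    refine le_antisymm (inf_le_inf_right _ k.le) (le_inf (le_trans ?_ k.fixed) inf_le_right)
    exact inf_le_inf_left _ (centralizer_le (SetLike.coe_subset_coe.mpr le_sup_left))
  have eW : H0 ⊓ centralizer (W1 : Set G) = W2 ⊓ H0 := by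
    rw [← d.H_centralizer_W1, inf_comm _ H0, ← inf_assoc, inf_eq_left.mpr k.le]
  rw [eU, eX, eW, d.cardW] at h0
  have h1 := d.order_W2
  -- the index of `W2 ⊓ H0` in `W2`
  haveI := d.W2_cyc
  obtain ⟨g, hg⟩ := IsCyclic.exists_generator (α := W2)
  have hgW : Nat.card W2 = orderOf (g : G) := by
    rw [orderOf_coe]
    exact (orderOf_eq_card_of_forall_mem_zpowers hg).symm
  have hsub : zpowers ((g : G) ^ p) ≤ W2 ⊓ H0 :=
    zpowers_le.mpr ⟨W2.pow_mem g.2 p, hexp _ (d.W2_le g.2)⟩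
  have hcardz : Nat.card (zpowers ((g : G) ^ p)) * Nat.gcd (orderOf (g : G)) p = orderOf (g : G) := by
    rw [Nat.card_zpowers, orderOf_pow]
    exact Nat.div_mul_cancel (Nat.gcd_dvd_left _ _)
  obtain ⟨j, hj⟩ := card_dvd_of_le (inf_le_left : W2 ⊓ H0 ≤ W2)
  obtain ⟨i, hi⟩ := card_dvd_of_le k.le
  have hjp : j ∣ p := by
    have hpos : 0 < Nat.card ↥(W2 ⊓ H0) := Nat.card_pos
    refine (Nat.mul_dvd_mul_iff_left hpos).mp ?_
    rw [← hj, hgW, ← hcardz]
    exact mul_dvd_mul (card_dvd_of_le hsub) (Nat.gcd_dvd_right _ _)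
  have hij : i = j ^ q := by
    refine Nat.eq_of_mul_eq_mul_left (Nat.mul_pos (pow_pos (Nat.card_pos (α := ↥(W2 ⊓ centralizer (U : Set G)))) q)
      (Nat.card_pos (α := H0))) ?_
    rw [mul_assoc, ← hi, h1, hj, mul_pow, h0]
    ring
  have hi1 : i ≠ 1 := fun e => k.ne (eq_of_le_of_card_ge k.le (by rw [hi, e, mul_one]))
  rcases (Nat.dvd_prime hp).mp hjp with e | e
  · rw [e, one_pow] at hij
    exact absurd hij hi1
  · subst e
    have hpH : j ∣ Nat.card H := by
      rw [hi, hij]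
      exact dvd_mul_of_dvd_right (dvd_pow_self j d.hq.ne_zero) _
    refine ⟨j, hp, hexp, by rw [hi, hij], by rw [hj, mul_comm],
      Odd.of_dvd_nat d.odd (hpH.trans (card_dvd_of_le d.H_le)), ?_, fun h => ?_, hpH⟩
    · rintro rfl
      exact d.q_not_dvd_H hpH
    · exact hp.ne_one (Nat.eq_one_of_dvd_coprimes d.copHU hpH h)

/-- PF (9.5)(b): `U` has no fixed point on `H/H0`. -/
theorem fixed_U {h : G} (hh : h ∈ H) (hfix : ∀ x ∈ U, x * h * x⁻¹ * h⁻¹ ∈ H0) : h ∈ H0 := by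
  obtain ⟨c, hc, hc'⟩ := CfsgLib.coprime_fixed_quotient (d.U_le.trans d.H_normal) d.copHU.symm
    (Or.inr d.solvable_H) k.le (k.H_normalizes d) (k.U_normalizes d) hh hfix
  have := H0.mul_mem (k.fixed hc) (H0.inv_mem hc')
  simpa using this

/-- PF (9.5)(b): a fixed point of `x ∈ W1#` on `H/H0` comes from `W2`. -/
theorem fixed_W {x : G} (hx : x ∈ W1) (hx1 : x ≠ 1) {h : G} (hh : h ∈ H) (hfix : x * h * x⁻¹ * h⁻¹ ∈ H0) :
    ∃ c ∈ W2, h⁻¹ * c ∈ H0 := by
  have hle : W1 ≤ modFixer H0 h := d.zpowers_eq hx hx1 ▸ zpowers_le.mpr ⟨k.W_normalizes d hx, hfix⟩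
  obtain ⟨c, hc, hc'⟩ := CfsgLib.coprime_fixed_quotient (d.W_le.trans d.H_normal) d.cop_W1_H
    (Or.inr d.solvable_H) k.le (k.H_normalizes d) (k.W_normalizes d) hh fun a ha => (hle ha).2
  rw [d.H_centralizer_W1] at hc
  exact ⟨c, hc, hc'⟩

theorem mem_kernelC {x : G} : x ∈ kernelC H U H0 ↔ x ∈ U ∧ ∀ h ∈ H, x * h * x⁻¹ * h⁻¹ ∈ H0 := by
  refine ⟨fun hx => ⟨hx.1, fun h hh => (mem_iInf.mp hx.2 ⟨h, hh⟩).2⟩,
    fun hx => ⟨hx.1, mem_iInf.mpr fun h => ⟨k.U_normalizes d hx.1, hx.2 _ h.2⟩⟩⟩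

/-- PF (9.6)(a). -/
theorem kernelC_facts : kernelC H U H0 ≤ U ∧ U ≤ normalizer (kernelC H U H0 : Set G) ∧
    W1 ≤ normalizer (kernelC H U H0 : Set G) ∧ (⁅U, U⁆ : Subgroup G) ≤ kernelC H U H0 ∧
    U ⊓ centralizer (H : Set G) ≤ kernelC H U H0 ∧ kernelC H U H0 ≠ U := by
  have hconj : ∀ g ∈ M, g ∈ normalizer (U : Set G) → g ∈ normalizer (kernelC H U H0 : Set G) := by
    intro g hg hgU
    refine mem_normalizer_of_conj fun x hx => ?_
    rw [k.mem_kernelC d] at hx ⊢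
    refine ⟨(mem_normalizer_iff.mp hgU x).mp hx.1, fun h hh => ?_⟩
    have h' := (mem_normalizer_iff.mp (k.normal hg) _).mp (hx.2 _
      ((mem_normalizer_iff.mp (d.H_normal (M.inv_mem hg)) h).mp hh))
    rw [show g * (x * (g⁻¹ * h * g⁻¹⁻¹) * x⁻¹ * (g⁻¹ * h * g⁻¹⁻¹)⁻¹) * g⁻¹ =
      g * x * g⁻¹ * h * (g * x * g⁻¹)⁻¹ * h⁻¹ by group] at h'
    exact h'
  have hcent : U ⊓ centralizer (H : Set G) ≤ kernelC H U H0 := fun x hx => (k.mem_kernelC d).mpr ⟨hx.1, fun h hh => by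
    rw [← (mem_inf.mp hx).2 h hh]
    simp⟩
  refine ⟨inf_le_left, fun g hg => hconj g (d.U_le hg) (Subgroup.le_normalizer hg),
    fun g hg => hconj g (d.W_le hg) (d.U_norm hg), (le_inf (commutator_le_self U) d.U_der).trans hcent,
    hcent, fun e => k.ne (le_antisymm k.le fun h hh => k.fixed_U d hh fun x hx => ?_)⟩
  rw [← e] at hx
  exact ((k.mem_kernelC d).mp hx).2 h hh

/-- PF (9.6)(b): `x ∈ W1#` has no fixed point on `U/C`. -/
theorem fixed_kernelC {x : G} (hx : x ∈ W1) (hx1 : x ≠ 1) {y : G} (hy : y ∈ U)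
    (hfix : x * y * x⁻¹ * y⁻¹ ∈ kernelC H U H0) : y ∈ kernelC H U H0 := by
  obtain ⟨h1, h2, h3, -⟩ := k.kernelC_facts d
  have hle : W1 ≤ modFixer (kernelC H U H0) y := d.zpowers_eq hx hx1 ▸ zpowers_le.mpr ⟨h3 hx, hfix⟩
  haveI := d.U_nil
  obtain ⟨c, hc, hc'⟩ := CfsgLib.coprime_fixed_quotient d.U_norm
    (d.copW.coprime_dvd_right (card_dvd_of_le d.U_le_der)) (Or.inr inferInstance) h1 h2 h3 hy
    fun a ha => (hle ha).2
  have hc1 : c = 1 := d.fpf' x hx hx1 c hc.1 (((mem_inf.mp hc).2 x hx))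
  rw [hc1, mul_one] at hc'
  simpa using inv_mem hc'

/-- PF (9.6)(d): `H0 C` and `H C` are normal in `M`. -/
theorem normal_sup : M ≤ normalizer ((H0 ⊔ kernelC H U H0 : Subgroup G) : Set G) ∧
    M ≤ normalizer ((H ⊔ kernelC H U H0 : Subgroup G) : Set G) ∧
    (H0 ⊔ kernelC H U H0) ⊓ H = H0 := by
  obtain ⟨h1, h2, h3, -⟩ := k.kernelC_facts d
  set C := kernelC H U H0 with hC
  have hCn : C ≤ normalizer (H0 : Set G) := h1.trans (k.U_normalizes d)
  refine ⟨d.le_normalizer (fun h hh => mem_normalizer_of_conj fun x hx => ?_)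
    ((le_inf (k.U_normalizes d) h2).trans (normalizer_inf_normalizer_le_normalizer_sup _ _))
    ((le_inf (k.W_normalizes d) h3).trans (normalizer_inf_normalizer_le_normalizer_sup _ _)),
    d.le_normalizer (le_sup_left.trans Subgroup.le_normalizer)
      ((le_inf (d.U_le.trans d.H_normal) h2).trans (normalizer_inf_normalizer_le_normalizer_sup _ _))
      ((le_inf (d.W_le.trans d.H_normal) h3).trans (normalizer_inf_normalizer_le_normalizer_sup _ _)), ?_⟩
  · obtain ⟨a, ha, c, hc, rfl⟩ := CfsgLib.mem_sup_of_le_normalizer hCn hx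
    have e1 : h * c * h⁻¹ * c⁻¹ ∈ H0 := by
      have := H0.inv_mem (((k.mem_kernelC d).mp hc).2 h hh)
      simpa [mul_assoc] using this
    rw [show h * (a * c) * h⁻¹ = h * a * h⁻¹ * (h * c * h⁻¹ * c⁻¹) * c by group]
    exact mul_mem (mem_sup_left (H0.mul_mem ((mem_normalizer_iff.mp (k.H_normalizes d hh) a).mp ha) e1))
      (mem_sup_right hc)
  · refine le_antisymm (fun x hx => ?_) (le_inf le_sup_left k.le)
    obtain ⟨a, ha, c, hc, rfl⟩ := CfsgLib.mem_sup_of_le_normalizer hCn (mem_inf.mp hx).1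
    have : c ∈ H ⊓ U := ⟨by simpa using H.mul_mem (H.inv_mem (k.le ha)) (mem_inf.mp hx).2, h1 hc⟩
    rw [d.inf_HU, mem_bot] at this
    rwa [this, mul_one]

/-- PF (9.6)(d): `M'' (H0 C) = H C`. -/
theorem derived_two_sup : ⁅⁅M, M⁆, ⁅M, M⁆⁆ ⊔ (H0 ⊔ kernelC H U H0) = H ⊔ kernelC H U H0 := by
  obtain ⟨h1, -, -, h4, -⟩ := k.kernelC_facts d
  refine le_antisymm (sup_le ?_ (sup_le_sup_right k.le _)) (sup_le ?_ (le_sup_right.trans le_sup_right))
  · refine (derived_le_of_sup ((commutator_le_self M).trans d.H_normal) d.H_le_der d.U_le_der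
      fun m hm => ?_).trans (sup_le_sup_left h4 _)
    obtain ⟨a, ha, b, hb, rfl⟩ := d.compl_U.2.2.2 m hm
    exact mul_mem_sup ha hb
  · rw [← CfsgLib.coprime_commutator_sup (d.U_le.trans d.H_normal) d.copHU.symm (Or.inr d.solvable_H)]
    exact sup_le (le_sup_of_le_left (commutator_mono d.H_le_der d.U_le_der))
      (le_sup_of_le_right (le_sup_of_le_left k.fixed))

/-- PF (9.6)(d): fixed points of `x ∈ W1#` on `M'/H0 C` come from `W2`. -/
theorem fixed_W_derived {x : G} (hx : x ∈ W1) (hx1 : x ≠ 1) {a : G} (ha : a ∈ (⁅M, M⁆ : Subgroup G))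
    (hfix : x * a * x⁻¹ * a⁻¹ ∈ H0 ⊔ kernelC H U H0) : ∃ c ∈ W2, a⁻¹ * c ∈ H0 ⊔ kernelC H U H0 := by
  obtain ⟨hn, -, -⟩ := k.normal_sup d
  obtain ⟨hC, -⟩ := k.kernelC_facts d
  have hle : W1 ≤ modFixer (H0 ⊔ kernelC H U H0) a :=
    d.zpowers_eq hx hx1 ▸ zpowers_le.mpr ⟨hn (d.W_le hx), hfix⟩
  haveI : IsMulCommutative W1 := by
    haveI := Fact.mk d.hq
    haveI : IsCyclic W1 := isCyclic_of_prime_card d.cardW
    exact ⟨⟨(IsCyclic.commGroup (α := W1)).mul_comm⟩⟩
  obtain ⟨c, hc, hc'⟩ := CfsgLib.coprime_fixed_quotient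
    (d.W_le.trans (le_normalizer_derived_self Subgroup.le_normalizer)) d.copW
    (Or.inl (Group.isSolvable_of_comm fun a b => (IsMulCommutative.is_comm).comm a b))
    (sup_le (k.le.trans d.H_le_der) (hC.trans d.U_le_der)) ((commutator_le_self M).trans hn)
    (d.W_le.trans hn) ha fun b hb => (hle hb).2
  refine ⟨c, ?_, hc'⟩
  rw [← d.W2_eq x hx hx1]
  exact ⟨hc.1, mem_centralizer_singleton_iff.mpr ((mem_inf.mp hc).2 x hx).symm⟩

/-- PF (9.6)(c): the kernel of `U W1` on `H/H0` is `C`. -/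
theorem kernel_UW {u w : G} (hu : u ∈ U) (hw : w ∈ W1)
    (hfix : ∀ h ∈ H, u * w * h * (u * w)⁻¹ * h⁻¹ ∈ H0) : w = 1 ∧ u ∈ kernelC H U H0 := by
  obtain ⟨h1, h2, h3, h4, -, hne⟩ := k.kernelC_facts d
  set C := kernelC H U H0 with hC
  have hw1 : w = 1 := by
    by_contra hw1
    refine hne (le_antisymm h1 fun v hv => k.fixed_kernelC d hw hw1 hv ?_)
    set z := w * v⁻¹ * w⁻¹ with hz
    have hzU : z ∈ U := (mem_normalizer_iff.mp (d.U_norm hw) _).mp (U.inv_mem hv)
    have hmem : v * u * z * u⁻¹ ∈ C := by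
      refine (k.mem_kernelC d).mpr ⟨mul_mem (mul_mem (mul_mem hv hu) hzU) (inv_mem hu), fun h hh => ?_⟩
      have ha : u * w ∈ modFixer H0 h := ⟨mul_mem (k.U_normalizes d hu) (k.W_normalizes d hw), hfix h hh⟩
      have hb : v * (u * w) * v⁻¹ ∈ modFixer H0 h := by
        refine ⟨mul_mem (mul_mem (k.U_normalizes d hv) ha.1) (inv_mem (k.U_normalizes d hv)), ?_⟩
        have h' := (mem_normalizer_iff.mp (k.U_normalizes d hv) _).mp (hfix _
          ((mem_normalizer_iff.mp (d.H_normal (d.U_le (U.inv_mem hv))) h).mp hh))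
        rw [show v * (u * w * (v⁻¹ * h * v⁻¹⁻¹) * (u * w)⁻¹ * (v⁻¹ * h * v⁻¹⁻¹)⁻¹) * v⁻¹ =
          v * (u * w) * v⁻¹ * h * (v * (u * w) * v⁻¹)⁻¹ * h⁻¹ by group] at h'
        exact h'
      have := (mul_mem hb (inv_mem ha)).2
      rwa [show v * (u * w) * v⁻¹ * (u * w)⁻¹ = v * u * z * u⁻¹ by rw [hz]; group] at this
    have hcomm : v * (u * z * u⁻¹ * z⁻¹) * v⁻¹ ∈ C := by
      refine (mem_normalizer_iff.mp (h2 hv) _).mp (h4 ?_)
      have := Subgroup.commutator_mem_commutator hu hzU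
      rwa [commutatorElement_def] at this
    have h5 : v * z ∈ C := by
      have := mul_mem (inv_mem hcomm) hmem
      rwa [show (v * (u * z * u⁻¹ * z⁻¹) * v⁻¹)⁻¹ * (v * u * z * u⁻¹) = v * z by group] at this
    have h6 := inv_mem h5
    rwa [show (v * z)⁻¹ = w * v * w⁻¹ * v⁻¹ by rw [hz]; group] at h6
  subst hw1
  exact ⟨rfl, (k.mem_kernelC d).mpr ⟨hu, fun h hh => by simpa using hfix h hh⟩⟩

/-- PF (9.5'): when `|W2|` is prime, `H0 = C_H(U)` and `C = C_U(H)`. -/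
theorem of_prime_W2 (hp : (Nat.card W2).Prime) :
    H0 = H ⊓ centralizer (U : Set G) ∧ W2 ⊓ H0 = ⊥ ∧ Nat.card H = Nat.card H0 * Nat.card W2 ^ q ∧
      kernelC H U H0 = U ⊓ centralizer (H : Set G) := by
  obtain ⟨p, hp', -, hcard, hW2, -, -, hpU, -⟩ := k.exists_prime d
  obtain ⟨-, hH⟩ := d.of_prime_W2 hp
  have hpW : p = Nat.card W2 :=
    (Nat.prime_dvd_prime_iff_eq hp' hp).mp (hW2 ▸ dvd_mul_right _ _)
  have hone : Nat.card ↥(W2 ⊓ H0) = 1 := by
    have h1 : Nat.card W2 * Nat.card ↥(W2 ⊓ H0) = Nat.card W2 * 1 := by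
      rw [mul_one]; conv_rhs => rw [hW2, hpW]
    exact Nat.eq_of_mul_eq_mul_left hp.pos h1
  rw [hpW] at hcard
  have he : H ⊓ centralizer (U : Set G) = H0 := eq_of_le_of_card_ge k.fixed (le_of_eq
    (Nat.eq_of_mul_eq_mul_right (pow_pos hp.pos q) (by rw [← hcard, hH, mul_comm])))
  refine ⟨he.symm, card_eq_one.mp hone, hcard, ?_⟩
  obtain ⟨h1, h2, h3, h4, h5, -⟩ := k.kernelC_facts d
  refine le_antisymm (fun x hx => ⟨h1 hx, fun h hh => ?_⟩) h5
  set C := kernelC H U H0 with hC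
  have hxc := (k.mem_kernelC d).mp hx
  obtain ⟨y, hy⟩ : ∃ y ∈ H0, x * h * x⁻¹ = y * h := ⟨_, hxc.2 h hh, by simp⟩
  -- `x` fixes `H0`, so conjugation by `x ^ n` multiplies `h` by `y ^ n`
  have hxy : x * y * x⁻¹ = y := by
    rw [← (mem_inf.mp (he.ge hy.1)).2 x (h1 hx) |> fun e : x * y = y * x => e.symm]
    group
  have hn : ∀ n : ℕ, x ^ n * h * (x ^ n)⁻¹ = y ^ n * h := by
    intro n
    induction n with
    | zero => simp
    | succ n ih =>
      rw [pow_succ' x, show x * x ^ n * h * (x * x ^ n)⁻¹ = x * (x ^ n * h * (x ^ n)⁻¹) * x⁻¹ by group, ih,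
        show x * (y ^ n * h) * x⁻¹ = (x * y * x⁻¹) ^ n * (x * h * x⁻¹) by rw [conj_pow]; group, hxy, hy.2,
        pow_succ, mul_assoc]
  have h6 := hn (orderOf x)
  rw [pow_orderOf_eq_one, inv_one, one_mul, mul_one] at h6
  have h7 : y ^ orderOf x = 1 := mul_eq_right.mp h6.symm
  have h8 : y = 1 := by
    have hd1 : orderOf y ∣ orderOf x := orderOf_dvd_of_pow_eq_one h7
    have hd2 : orderOf y ∣ Nat.card H := Nat.card_zpowers y ▸ card_dvd_of_le (zpowers_le.mpr (k.le hy.1))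
    have hd3 : orderOf x ∣ Nat.card U := Nat.card_zpowers x ▸ card_dvd_of_le (zpowers_le.mpr (h1 hx))
    exact orderOf_eq_one_iff.mp (Nat.eq_one_of_dvd_coprimes d.copHU hd2 (hd1.trans hd3))
  have := hy.2
  rw [h8, one_mul, mul_inv_eq_iff_eq_mul] at this
  exact this.symm

/-- PF (9.5')(b): if moreover `C_H(U) = 1` then `H0 = 1` and `|H| = p ^ q`. -/
theorem eq_bot_of_prime_W2 (hp : (Nat.card W2).Prime) (h : H ⊓ centralizer (U : Set G) = ⊥) :
    H0 = ⊥ ∧ Nat.card H = Nat.card W2 ^ q ∧ ∀ x ∈ H, x ^ Nat.card W2 = 1 := by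
  obtain ⟨p, hp', hexp, -, hW2, -⟩ := k.exists_prime d
  obtain ⟨e, -, hcard, -⟩ := k.of_prime_W2 d hp
  rw [h] at e
  rw [e, card_bot, one_mul] at hcard
  refine ⟨e, hcard, fun x hx => ?_⟩
  have := hexp x hx
  rw [e, mem_bot, (Nat.prime_dvd_prime_iff_eq hp' hp).mp (hW2 ▸ dvd_mul_right _ _)] at this
  exact this

end IsCoreKernel

end CfsgLib.OddOrder.S9
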