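import Cfsg.Agent.Lib.OddOrder.S9a.Linear
import Cfsg.Agent.Lib.OddOrder.S9a.Factor

/-!
Peterfalvi (9.7) for a maximal subgroup: transport of the linear algebra to `H/H0` and `U/C`.
-/

set_option autoImplicit false
set_option linter.unusedSectionVars false
set_option linter.style.haveILetI false
set_option maxHeartbeats 400000

namespace CfsgLib.OddOrder.S9

open Subgroup Cfsg CfsgLib.MinSimpleOdd
open scoped Pointwise commutatorElement

universe u

variable {G : Type u} [Group G]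

/-- `U` is irreducible on `H/H0`. -/
def IsGalois (H U H0 : Subgroup G) : Prop :=
  ∀ N : Subgroup G, H0 ≤ N → N ≤ H → U ≤ normalizer (N : Set G) → N = H0 ∨ N = H

/-- `f` and `π` identify `H/H0` with `V` and `U/C` with `A`, compatibly with the actions of `U` and `w`. -/
structure IsModel (H U W2 H0 : Subgroup G) (w : G) (p q : ℕ) {V : Type u} [AddCommGroup V] {A : Type u}
    [CommGroup A] (f : G → V) (π : G → A) (ρ : A →* AddMonoid.End V) (σ : MulAut A) (T : AddMonoid.End V) :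
    Prop where
  lin : LinearData p q ρ σ T
  le : H0 ≤ H
  U_norm : U ≤ normalizer (H : Set G)
  w_norm : w ∈ normalizer (H : Set G)
  f_mul : ∀ x ∈ H, ∀ y ∈ H, f (x * y) = f x + f y
  f_zero : ∀ x ∈ H, (f x = 0 ↔ x ∈ H0)
  f_surj : ∀ v, ∃ x ∈ H, f x = v
  π_mul : ∀ x ∈ U, ∀ y ∈ U, π (x * y) = π x * π y
  π_one : ∀ x ∈ U, (π x = 1 ↔ x ∈ kernelC H U H0)
  π_surj : ∀ a, ∃ x ∈ U, π x = a
  act : ∀ x ∈ U, ∀ h ∈ H, f (x * h * x⁻¹) = ρ (π x) (f h)
  act_w : ∀ h ∈ H, f (w * h * w⁻¹) = T (f h)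
  π_w : ∀ x ∈ U, π (w * x * w⁻¹) = σ (π x)
  fix : ∀ h ∈ H, (T (f h) = f h ↔ ∃ c ∈ W2, h⁻¹ * c ∈ H0)

namespace IsModel

variable {H U W2 H0 : Subgroup G} {w : G} {p q : ℕ} {V : Type u} [AddCommGroup V] {A : Type u}
    [CommGroup A] {f : G → V} {π : G → A} {ρ : A →* AddMonoid.End V} {σ : MulAut A} {T : AddMonoid.End V}
    (m : IsModel H U W2 H0 w p q f π ρ σ T)
include m

theorem f_one : f 1 = 0 := (m.f_zero 1 H.one_mem).mpr H0.one_mem

theorem f_inv {x : G} (hx : x ∈ H) : f x⁻¹ = -f x := by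
  refine eq_neg_of_add_eq_zero_left ?_
  rw [← m.f_mul _ (H.inv_mem hx) _ hx, inv_mul_cancel, m.f_one]

theorem f_eq_iff {x y : G} (hx : x ∈ H) (hy : y ∈ H) : f x = f y ↔ x⁻¹ * y ∈ H0 := by
  rw [← m.f_zero _ (H.mul_mem (H.inv_mem hx) hy), m.f_mul _ (H.inv_mem hx) _ hy, m.f_inv hx, neg_add_eq_zero]

theorem f_pow {x : G} (hx : x ∈ H) (n : ℕ) : f (x ^ n) = n • f x := by
  induction n with
  | zero => rw [pow_zero, zero_smul, m.f_one]
  | succ n ih => rw [pow_succ, m.f_mul _ (H.pow_mem hx n) _ hx, ih, succ_nsmul]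

theorem π_map_one : π 1 = 1 := by
  have h := m.π_mul 1 U.one_mem 1 U.one_mem
  rw [mul_one] at h
  exact right_eq_mul.mp h

theorem π_inv {x : G} (hx : x ∈ U) : π x⁻¹ = (π x)⁻¹ := by
  refine eq_inv_of_mul_eq_one_left ?_
  rw [← m.π_mul _ (U.inv_mem hx) _ hx, inv_mul_cancel, m.π_map_one]

theorem card_A [Finite G] : Nat.card A = (kernelC H U H0).relIndex U := by
  let φ : U →* A := { toFun := fun x => π x, map_one' := m.π_map_one, map_mul' := fun x y => m.π_mul _ x.2 _ y.2 }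
  have hs : Function.Surjective φ := fun a => by
    obtain ⟨x, hx, hxa⟩ := m.π_surj a
    exact ⟨⟨x, hx⟩, hxa⟩
  have hk : φ.ker = (kernelC H U H0).subgroupOf U := by
    ext x
    exact m.π_one _ x.2
  rw [relIndex, ← hk, index_ker, φ.range_eq_top.mpr hs, Nat.card_congr Subgroup.topEquiv.toEquiv]

/-- The preimage in `H` of a subgroup of `V`. -/
theorem exists_preimage (W : AddSubgroup V) :
    ∃ N : Subgroup G, H0 ≤ N ∧ N ≤ H ∧ ∀ x ∈ H, (x ∈ N ↔ f x ∈ W) := by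
  refine ⟨{ carrier := {x | x ∈ H ∧ f x ∈ W}
            one_mem' := ⟨H.one_mem, by rw [m.f_one]; exact W.zero_mem⟩
            mul_mem' := fun {a b} ha hb => ⟨H.mul_mem ha.1 hb.1, by rw [m.f_mul _ ha.1 _ hb.1]; exact W.add_mem ha.2 hb.2⟩
            inv_mem' := fun {a} ha => ⟨H.inv_mem ha.1, by rw [m.f_inv ha.1]; exact W.neg_mem ha.2⟩ },
    fun x hx => ?_, fun x hx => hx.1, fun x hx => ⟨fun h => h.2, fun h => ⟨hx, h⟩⟩⟩
  exact ⟨m.le hx, by rw [(m.f_zero x (m.le hx)).mpr hx]; exact W.zero_mem⟩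

theorem isGalois_iff [Finite G] : IsGalois H U H0 ↔ IsGaloisAction ρ := by
  constructor
  · intro hg W hW
    obtain ⟨N, h1, h2, hN⟩ := m.exists_preimage W
    have hn : U ≤ normalizer (N : Set G) := fun x hx => mem_normalizer_of_conj fun y hy => by
      have hy' := h2 hy
      refine (hN _ ((mem_normalizer_iff.mp (m.U_norm hx) y).mp hy')).mpr ?_
      rw [m.act x hx y hy']
      exact hW _ _ ((hN y hy').mp hy)
    rcases hg N h1 h2 hn with e | e
    · refine Or.inl ((AddSubgroup.eq_bot_iff_forall W).mpr fun v hv => ?_)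
      obtain ⟨x, hx, rfl⟩ := m.f_surj v
      exact (m.f_zero x hx).mpr (e.le ((hN x hx).mpr hv))
    · refine Or.inr (eq_top_iff.mpr fun v _ => ?_)
      obtain ⟨x, hx, rfl⟩ := m.f_surj v
      exact (hN x hx).mp (e.ge hx)
  · intro hg N h1 h2 hn
    let W : AddSubgroup V :=
      { carrier := {v | ∃ x ∈ N, f x = v}
        zero_mem' := ⟨1, N.one_mem, m.f_one⟩
        add_mem' := fun {a b} ha hb => by
          obtain ⟨x, hx, rfl⟩ := ha
          obtain ⟨y, hy, rfl⟩ := hb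
          exact ⟨x * y, N.mul_mem hx hy, m.f_mul _ (h2 hx) _ (h2 hy)⟩
        neg_mem' := fun {a} ha => by
          obtain ⟨x, hx, rfl⟩ := ha
          exact ⟨x⁻¹, N.inv_mem hx, m.f_inv (h2 hx)⟩ }
    rcases hg W (fun a v hv => by
      obtain ⟨y, hy, rfl⟩ := hv
      obtain ⟨x, hx, rfl⟩ := m.π_surj a
      exact ⟨x * y * x⁻¹, (mem_normalizer_iff.mp (hn hx) y).mp hy, m.act x hx y (h2 hy)⟩) with e | e
    · refine Or.inl (le_antisymm (fun x hx => (m.f_zero x (h2 hx)).mp ?_) h1)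
      exact AddSubgroup.mem_bot.mp (e.le ⟨x, hx, rfl⟩)
    · refine Or.inr (le_antisymm h2 fun x hx => ?_)
      obtain ⟨y, hy, hye⟩ : ∃ y ∈ N, f y = f x := (e.ge (AddSubgroup.mem_top (f x)) : f x ∈ W)
      have := N.mul_mem hy (h1 ((m.f_eq_iff (h2 hy) hx).mp hye))
      rwa [mul_inv_cancel_left] at this

end IsModel

namespace IsCoreKernel

variable [Finite G] {M H U W1 W2 H0 : Subgroup G} {q : ℕ}

theorem exists_model (k : IsCoreKernel M H U H0) (d : TypeData M H U W1 W2 q) {w : G} (hw : w ∈ W1) (hw1 : w ≠ 1) :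
    ∃ (p : ℕ) (V : Type u) (_ : AddCommGroup V) (_ : Finite V) (A : Type u) (_ : CommGroup A) (_ : Finite A)
      (f : G → V) (π : G → A) (ρ : A →* AddMonoid.End V) (σ : MulAut A) (T : AddMonoid.End V),
      IsModel H U W2 H0 w p q f π ρ σ T ∧ Odd p ∧ p ≠ q ∧ ¬ p ∣ Nat.card U := by
  classical
  obtain ⟨p, hp, hexp, hcard, hW2, hodd, hpq, hpU, -⟩ := k.exists_prime d
  refine ⟨p, ?_⟩
  have hHn := k.H_normalizes d
  haveI : (H0.subgroupOf H).Normal := (normal_subgroupOf_iff_le_normalizer k.le).mpr hHn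
  letI : CommGroup (↥H ⧸ H0.subgroupOf H) :=
    { (inferInstance : Group (↥H ⧸ H0.subgroupOf H)) with
      mul_comm := fun a b => by
        refine QuotientGroup.induction_on a fun a => QuotientGroup.induction_on b fun b => ?_
        rw [← QuotientGroup.mk_mul, ← QuotientGroup.mk_mul]
        refine QuotientGroup.eq.mpr (mem_subgroupOf.mpr (k.derived ?_))
        have := Subgroup.commutator_mem_commutator (H.inv_mem b.2) (H.inv_mem a.2)
        simpa [commutatorElement_def, mul_assoc] using this }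
  let V := Additive (↥H ⧸ H0.subgroupOf H)
  let mkV : ↥H → V := fun y => Additive.ofMul (QuotientGroup.mk' (H0.subgroupOf H) y)
  have mkV_eq : ∀ x y : ↥H, mkV x = mkV y ↔ (x : G) / y ∈ H0 := fun x y =>
    (Additive.ofMul.injective.eq_iff).trans (QuotientGroup.eq_iff_div_mem.trans mem_subgroupOf)
  have mkV_surj : Function.Surjective mkV := fun v => by
    obtain ⟨y, hy⟩ := QuotientGroup.mk'_surjective (H0.subgroupOf H) (Additive.toMul v)
    exact ⟨y, congrArg Additive.ofMul hy⟩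
  set L : Subgroup G := normalizer (H : Set G) ⊓ normalizer (H0 : Set G) with hL
  let cj : ↥L → (↥H →* ↥H) := fun a =>
    (Subgroup.normalizerMonoidHom H ⟨a, (mem_inf.mp a.2).1⟩).toMonoidHom
  have hcj : ∀ a : ↥L, H0.subgroupOf H ≤ (H0.subgroupOf H).comap (cj a) := fun a y hy =>
    (mem_normalizer_iff.mp (mem_inf.mp a.2).2 _).mp hy
  let act₀ : ↥L → AddMonoid.End V := fun a => MonoidHom.toAdditive (QuotientGroup.map _ _ (cj a) (hcj a))
  have hact : ∀ (a : ↥L) (y : ↥H), act₀ a (mkV y) =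
      mkV ⟨(a : G) * y * (a : G)⁻¹, (mem_normalizer_iff.mp (mem_inf.mp a.2).1 _).mp y.2⟩ := fun a y => rfl
  let act : ↥L →* AddMonoid.End V :=
    { toFun := act₀
      map_one' := AddMonoidHom.ext fun v => by
        obtain ⟨y, rfl⟩ := mkV_surj v
        exact (hact _ _).trans (congrArg mkV (Subtype.ext (by simp)))
      map_mul' := fun a b => AddMonoidHom.ext fun v => by
        obtain ⟨y, rfl⟩ := mkV_surj v
        show _ = act₀ a (act₀ b (mkV y))
        refine (hact _ _).trans (Eq.trans ?_ ((congrArg (act₀ a) (hact b y)).trans (hact _ _)).symm)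
        exact congrArg mkV (Subtype.ext (by simp [mul_assoc])) }
  have hUL : U ≤ L := le_inf (d.U_le.trans d.H_normal) (k.U_normalizes d)
  have hwL : w ∈ L := ⟨d.H_normal (d.W_le hw), k.W_normalizes d hw⟩
  let ρ₀ : ↥U →* AddMonoid.End V := act.comp (inclusion hUL)
  have hker : ∀ x : ↥U, x ∈ ρ₀.ker ↔ (x : G) ∈ kernelC H U H0 := fun x => by
    rw [MonoidHom.mem_ker, k.mem_kernelC d]
    refine ⟨fun h => ⟨x.2, fun y hy => ?_⟩, fun h => AddMonoidHom.ext fun v => ?_⟩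
    · have := DFunLike.congr_fun h (mkV ⟨y, hy⟩)
      have h' : (x : G) * y * (x : G)⁻¹ / y ∈ H0 := (mkV_eq _ _).mp this
      simpa [div_eq_mul_inv] using h'
    · obtain ⟨y, rfl⟩ := mkV_surj v
      refine (mkV_eq _ _).mpr ?_
      show (x : G) * y * (x : G)⁻¹ / y ∈ H0
      simpa [div_eq_mul_inv] using h.2 _ y.2
  let A := ↥U ⧸ ρ₀.ker
  letI : CommGroup A :=
    { (inferInstance : Group A) with
      mul_comm := fun a b => by
        refine QuotientGroup.induction_on a fun a => QuotientGroup.induction_on b fun b => ?_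
        rw [← QuotientGroup.mk_mul, ← QuotientGroup.mk_mul]
        refine QuotientGroup.eq.mpr ((hker _).mpr ((k.kernelC_facts d).2.2.2.1 ?_))
        have := Subgroup.commutator_mem_commutator (U.inv_mem b.2) (U.inv_mem a.2)
        simpa [commutatorElement_def, mul_assoc] using this }
  let ρ : A →* AddMonoid.End V := QuotientGroup.lift ρ₀.ker ρ₀ le_rfl
  let T : AddMonoid.End V := act ⟨w, hwL⟩
  let e : MulAut ↥U := Subgroup.normalizerMonoidHom U ⟨w, d.U_norm hw⟩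
  have he : ∀ x : ↥U, ((e x : ↥U) : G) = w * x * w⁻¹ := fun x => rfl
  have hTw : ∀ x : ↥U, T * ρ₀ x = ρ₀ (e x) * T := fun x => by
    show act _ * act _ = act _ * act _
    rw [← map_mul, ← map_mul]
    refine congrArg act (Subtype.ext ?_)
    show w * (x : G) = w * x * w⁻¹ * w
    group
  have hwq : w ^ q = 1 := by
    have := congrArg Subtype.val (pow_card_eq_one' (x := (⟨w, hw⟩ : W1)))
    rwa [d.cardW] at this
  have hTq : T ^ q = 1 := by
    rw [← map_pow, show (⟨w, hwL⟩ : ↥L) ^ q = 1 from Subtype.ext hwq, map_one]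
  have hTinv : T * T ^ (q - 1) = 1 := by rw [← pow_succ', Nat.sub_add_cancel d.hq.one_le, hTq]
  have hmap : ρ₀.ker.map (e : ↥U →* ↥U) = ρ₀.ker := by
    refine Subgroup.eq_of_le_of_card_ge ?_ (le_of_eq (card_map_of_injective e.injective).symm)
    rintro _ ⟨x, hx, rfl⟩
    have hx : ρ₀ x = 1 := hx
    change ρ₀ (e x) = 1
    have h1 := hTw x
    rw [hx, mul_one] at h1
    calc ρ₀ (e x) = ρ₀ (e x) * (T * T ^ (q - 1)) := by rw [hTinv, mul_one]
      _ = T * T ^ (q - 1) := by rw [← mul_assoc, ← h1]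
      _ = 1 := hTinv
  let σ : MulAut A := QuotientGroup.congr ρ₀.ker ρ₀.ker e hmap
  have hσ : ∀ x : ↥U, σ (QuotientGroup.mk' ρ₀.ker x) = QuotientGroup.mk' ρ₀.ker (e x) := fun x => rfl
  let f : G → V := fun g => if h : g ∈ H then mkV ⟨g, h⟩ else 0
  let π : G → A := fun g => if h : g ∈ U then QuotientGroup.mk' ρ₀.ker ⟨g, h⟩ else 1
  have hf : ∀ g (h : g ∈ H), f g = mkV ⟨g, h⟩ := fun g h => dif_pos h
  have hπ : ∀ g (h : g ∈ U), π g = QuotientGroup.mk' ρ₀.ker ⟨g, h⟩ := fun g h => dif_pos h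
  have mkV_zero : ∀ x : ↥H, mkV x = 0 ↔ (x : G) ∈ H0 := fun x =>
    (Additive.ofMul.injective.eq_iff (b := 1)).trans ((QuotientGroup.eq_one_iff x).trans mem_subgroupOf)
  have hfix : ∀ x : ↥H, T (mkV x) = mkV x ↔ ∃ c ∈ W2, (x : G)⁻¹ * c ∈ H0 := fun x => by
    show act₀ _ (mkV x) = mkV x ↔ _
    rw [hact, mkV_eq, div_eq_mul_inv]
    refine ⟨fun h => k.fixed_W d hw hw1 x.2 h, ?_⟩
    rintro ⟨c, hc, hc'⟩
    have hcomm : w * c = c * w := (mem_inf.mp (d.H_centralizer_W1.ge hc)).2 w hw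
    have h1 := (mem_normalizer_iff.mp (k.W_normalizes d hw) _).mp hc'
    have h2 := H0.mul_mem h1 (H0.inv_mem hc')
    have h3 := (mem_normalizer_iff.mp (hHn x.2) _).mp (H0.inv_mem h2)
    rw [show (x : G) * (w * ((x : G)⁻¹ * c) * w⁻¹ * ((x : G)⁻¹ * c)⁻¹)⁻¹ * (x : G)⁻¹ =
      c * (w * c * w⁻¹)⁻¹ * (w * x * w⁻¹ * (x : G)⁻¹) by group, hcomm, mul_inv_cancel_right,
      mul_inv_cancel, one_mul] at h3
    exact h3
  have hlin : LinearData p q ρ σ T := by
    refine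
      { hp := hp
        hq := d.hq
        exp := fun v => ?_
        card := ?_
        inj := ?_
        sigma_pow := ?_
        sigma_fpf := fun a ha => ?_
        nontriv := ?_
        T_pow := hTq
        twist := fun a v => ?_
        irred := fun W hW hT => ?_
        fixed := ?_ }
    · obtain ⟨y, rfl⟩ := mkV_surj v
      show Additive.ofMul ((QuotientGroup.mk' (H0.subgroupOf H) y) ^ p) = 0
      rw [← map_pow, show (QuotientGroup.mk' (H0.subgroupOf H)) (y ^ p) = 1 from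
        (QuotientGroup.eq_one_iff _).mpr (mem_subgroupOf.mpr (hexp _ y.2))]
      rfl
    · refine Nat.eq_of_mul_eq_mul_right (Nat.card_pos (α := H0)) ?_
      rw [← mul_comm (Nat.card H0) (p ^ q), ← hcard, Nat.card_congr Additive.toMul,
        ← Nat.card_congr (subgroupOfEquivOfLe k.le).toEquiv, ← Subgroup.card_eq_card_quotient_mul_card_subgroup]
    · refine (injective_iff_map_eq_one ρ).mpr fun a => QuotientGroup.induction_on a fun x hx => ?_
      exact (QuotientGroup.eq_one_iff x).mpr hx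
    · have hn : ∀ (n : ℕ) (x : ↥U), (σ ^ n) (QuotientGroup.mk' ρ₀.ker x) = QuotientGroup.mk' ρ₀.ker ((e ^ n) x) := by
        intro n
        induction n with
        | zero => exact fun x => rfl
        | succ n ih => exact fun x => by rw [pow_succ', pow_succ', MulAut.mul_apply, MulAut.mul_apply, ih, hσ]
      have heq : e ^ q = 1 := by
        rw [← map_pow, show (⟨w, d.U_norm hw⟩ : normalizer (U : Set G)) ^ q = 1 from Subtype.ext hwq, map_one]
      refine MulEquiv.ext fun a => ?_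
      obtain ⟨x, rfl⟩ := QuotientGroup.mk'_surjective _ a
      rw [hn, heq]
      rfl
    · obtain ⟨x, rfl⟩ := QuotientGroup.mk'_surjective _ a
      rw [hσ] at ha
      have h1 : (e x : ↥U) / x ∈ ρ₀.ker := QuotientGroup.eq_iff_div_mem.mp ha
      rw [hker] at h1
      have h2 := k.fixed_kernelC d hw hw1 x.2 (by simpa [div_eq_mul_inv, he] using h1)
      exact (QuotientGroup.eq_one_iff x).mpr ((hker x).mpr h2)
    · refine QuotientGroup.nontrivial_iff.mpr fun h => (k.kernelC_facts d).2.2.2.2.2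
        (le_antisymm (k.kernelC_facts d).1 fun x hx => ?_)
      exact (hker ⟨x, hx⟩).mp (h.ge (mem_top _))
    · obtain ⟨x, rfl⟩ := QuotientGroup.mk'_surjective _ a
      exact DFunLike.congr_fun (hTw x) v
    · let N : Subgroup G :=
        ((AddSubgroup.toSubgroup' W).comap (QuotientGroup.mk' (H0.subgroupOf H))).map H.subtype
      have hN : ∀ y : ↥H, (y : G) ∈ N ↔ mkV y ∈ W := fun y =>
        ⟨fun ⟨z, hz, hzy⟩ => by rwa [← Subtype.ext hzy] , fun h => ⟨y, h, rfl⟩⟩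
      have hNH : N ≤ H := map_subtype_le _
      have h0N : H0 ≤ N := fun y hy => (hN ⟨y, k.le hy⟩).mpr (by
        rw [(mkV_zero ⟨y, k.le hy⟩).mpr hy]; exact W.zero_mem)
      have hinv : ∀ (a : ↥L), (∀ v ∈ W, act₀ a v ∈ W) → (a : G) ∈ normalizer (N : Set G) := fun a ha =>
        mem_normalizer_of_conj fun y hy =>
          (hN ⟨_, (mem_normalizer_iff.mp (mem_inf.mp a.2).1 y).mp (hNH hy)⟩).mpr
            (ha _ ((hN ⟨y, hNH hy⟩).mp hy))
      rcases k.eq_or_eq d h0N hNH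
        (fun x hx => hinv ⟨x, hUL hx⟩ fun v hv => hW (QuotientGroup.mk' ρ₀.ker ⟨x, hx⟩) v hv)
        (by rw [← d.zpowers_eq hw hw1]; exact zpowers_le.mpr (hinv ⟨w, hwL⟩ hT)) with h | h
      · refine Or.inl ((AddSubgroup.eq_bot_iff_forall W).mpr fun v hv => ?_)
        obtain ⟨y, rfl⟩ := mkV_surj v
        exact (mkV_zero y).mpr (h.le ((hN y).mpr hv))
      · refine Or.inr (eq_top_iff.mpr fun v _ => ?_)
        obtain ⟨y, rfl⟩ := mkV_surj v
        exact (hN y).mp (h.ge y.2)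
    · let ι : ↥W2 →* (↥H ⧸ H0.subgroupOf H) := (QuotientGroup.mk' _).comp (inclusion d.W2_le)
      have hι : ι.ker = (W2 ⊓ H0).subgroupOf W2 := by
        ext x
        exact ((QuotientGroup.eq_one_iff _).trans mem_subgroupOf).trans
          ⟨fun h => mem_subgroupOf.mpr ⟨x.2, h⟩, fun h => (mem_subgroupOf.mp h).2⟩
      have h1 := Subgroup.card_eq_card_quotient_mul_card_subgroup ι.ker
      rw [Nat.card_congr (QuotientGroup.quotientKerEquivRange ι).toEquiv, hι,
        Nat.card_congr (subgroupOfEquivOfLe inf_le_left).toEquiv, hW2] at h1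
      refine Nat.eq_of_mul_eq_mul_right (Nat.card_pos (α := ↥(W2 ⊓ H0))) ?_
      rw [h1]
      congr 1
      refine Nat.card_congr (Equiv.subtypeEquiv Additive.toMul fun v => ?_)
      obtain ⟨y, rfl⟩ := mkV_surj v
      rw [hfix]
      constructor
      · rintro ⟨c, hc, hc'⟩
        exact ⟨⟨c, hc⟩, (QuotientGroup.eq.mpr (mem_subgroupOf.mpr hc')).symm⟩
      · rintro ⟨c, hc⟩
        exact ⟨c, c.2, mem_subgroupOf.mp (QuotientGroup.eq.mp hc.symm)⟩
  refine ⟨V, inferInstance, inferInstance, A, inferInstance, inferInstance, f, π, ρ, σ, T,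
    { lin := hlin
      le := k.le
      U_norm := d.U_le.trans d.H_normal
      w_norm := hwL.1
      f_mul := fun x hx y hy => by rw [hf x hx, hf y hy, hf _ (H.mul_mem hx hy)]; rfl
      f_zero := fun x hx => by rw [hf x hx]; exact mkV_zero _
      f_surj := fun v => by obtain ⟨y, rfl⟩ := mkV_surj v; exact ⟨y, y.2, hf _ y.2⟩
      π_mul := fun x hx y hy => by rw [hπ x hx, hπ y hy, hπ _ (U.mul_mem hx hy)]; rfl
      π_one := fun x hx => by rw [hπ x hx]; exact (QuotientGroup.eq_one_iff _).trans (hker _)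
      π_surj := fun a => by obtain ⟨x, rfl⟩ := QuotientGroup.mk'_surjective _ a; exact ⟨x, x.2, hπ _ x.2⟩
      act := fun x hx h hh => by
        rw [hπ x hx, hf h hh, hf _ ((mem_normalizer_iff.mp (d.H_normal (d.U_le hx)) h).mp hh)]; rfl
      act_w := fun h hh => by
        rw [hf h hh, hf _ ((mem_normalizer_iff.mp hwL.1 h).mp hh)]; rfl
      π_w := fun x hx => by
        rw [hπ x hx, hπ _ ((mem_normalizer_iff.mp (d.U_norm hw) x).mp hx)]; rfl
      fix := fun h hh => by rw [hf h hh]; exact hfix _ }, hodd, hpq, hpU⟩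

end IsCoreKernel

end CfsgLib.OddOrder.S9

namespace CfsgLib.OddOrder.S9.IsCoreKernel

open Subgroup Cfsg CfsgLib.MinSimpleOdd

universe u

variable {G : Type u} [Group G] [Finite G] {M H U W1 W2 H0 : Subgroup G} {q p : ℕ}

theorem prime_unique (k : IsCoreKernel M H U H0) (d : TypeData M H U W1 W2 q) (hp : p.Prime)
    (hcard : Nat.card H = Nat.card H0 * p ^ q) :
    (∀ h ∈ H, h ^ p ∈ H0) ∧ Nat.card W2 = p * Nat.card ↥(W2 ⊓ H0) ∧ Odd p ∧ p ≠ q ∧ ¬ p ∣ Nat.card U := by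
  obtain ⟨p', hp', hexp, hcard', hW2, hodd, hpq, hpU, -⟩ := k.exists_prime d
  have h1 : p ^ q = p' ^ q := Nat.eq_of_mul_eq_mul_left (Nat.card_pos (α := H0)) (hcard.symm.trans hcard')
  obtain rfl : p = p' := Nat.pow_left_injective d.hq.ne_zero h1
  exact ⟨hexp, hW2, hodd, hpq, hpU⟩

theorem exists_model_of_card (k : IsCoreKernel M H U H0) (d : TypeData M H U W1 W2 q) (hp : p.Prime)
    (hcard : Nat.card H = Nat.card H0 * p ^ q) {w : G} (hw : w ∈ W1) (hw1 : w ≠ 1) :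
    ∃ (V : Type u) (_ : AddCommGroup V) (_ : Finite V) (A : Type u) (_ : CommGroup A) (_ : Finite A)
      (f : G → V) (π : G → A) (ρ : A →* AddMonoid.End V) (σ : MulAut A) (T : AddMonoid.End V),
      IsModel H U W2 H0 w p q f π ρ σ T := by
  obtain ⟨p', V, i1, i2, A, i3, i4, f, π, ρ, σ, T, m, -⟩ := k.exists_model d hw hw1
  obtain rfl : p = p' := by
    obtain ⟨hexp, -⟩ := k.prime_unique d hp hcard
    obtain ⟨v, hv⟩ : ∃ v : V, v ≠ 0 := by
      obtain ⟨e, he, -⟩ := m.lin.exists_fixed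
      exact ⟨e, he⟩
    obtain ⟨x, hx, rfl⟩ := m.f_surj v
    have h1 : p • f x = 0 := by
      rw [← m.f_pow hx]
      exact (m.f_zero _ (H.pow_mem hx p)).mpr (hexp x hx)
    have h2 := addOrderOf_dvd_of_nsmul_eq_zero h1
    rw [addOrderOf_eq_prime (hp := ⟨m.lin.hp⟩) (m.lin.exp _) hv] at h2
    exact ((Nat.prime_dvd_prime_iff_eq m.lin.hp hp).mp h2).symm
  exact ⟨V, i1, i2, A, i3, i4, f, π, ρ, σ, T, m⟩

/-- PF (9.6)(b) and the bound of (9.7)(c) for `u = |U : C|`. -/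
theorem index_facts (k : IsCoreKernel M H U H0) (d : TypeData M H U W1 W2 q) (hp : p.Prime)
    (hcard : Nat.card H = Nat.card H0 * p ^ q) :
    (kernelC H U H0).relIndex U ∣ Nat.card U ∧ Odd ((kernelC H U H0).relIndex U) ∧
      (kernelC H U H0).relIndex U % q = 1 ∧ q < (kernelC H U H0).relIndex U ∧
      (kernelC H U H0).relIndex U ≤ (p ^ q - 1) / (p - 1) := by
  obtain ⟨w, hw, hw1⟩ := d.exists_W1
  obtain ⟨V, _, _, A, _, _, f, π, ρ, σ, T, m⟩ := k.exists_model_of_card d hp hcard hw hw1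
  have hdvd : (kernelC H U H0).relIndex U ∣ Nat.card U := index_dvd_card _
  refine ⟨hdvd, Odd.of_dvd_nat d.odd (hdvd.trans (card_dvd_of_le d.U_le)), ?_⟩
  rw [← m.card_A]
  exact ⟨m.lin.card_mod, m.lin.q_lt_card, m.lin.card_le⟩

/-- PF (9.7)(b), in the shape used by the final contradiction. -/
theorem galois_field (k : IsCoreKernel M H U H0) (d : TypeData M H U W1 W2 q) (hp : p.Prime)
    (hcard : Nat.card H = Nat.card H0 * p ^ q) (hgal : IsGalois H U H0) {w : G} (hw : w ∈ W1) (hw1 : w ≠ 1) :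
    ∃ (F : Type u) (_ : Field F) (_ : Fintype F) (f ψ : G → F) (s : F ≃+* F),
      Fintype.card F = p ^ q ∧ orderOf s = q ∧ (∀ x, s x = x ↔ x ^ p = x) ∧
      (∀ x ∈ H, ∀ y ∈ H, f (x * y) = f x + f y) ∧ (∀ x ∈ H, (f x = 0 ↔ x ∈ H0)) ∧
      (∀ v, ∃ x ∈ H, f x = v) ∧
      (∀ u ∈ U, ψ u ≠ 0 ∧ ∀ x ∈ H, f (u * x * u⁻¹) = ψ u * f x) ∧
      (∀ u ∈ U, ∀ v ∈ U, ψ (u * v) = ψ u * ψ v) ∧ (∀ u ∈ U, (ψ u = 1 ↔ u ∈ kernelC H U H0)) ∧
      (∀ x ∈ H, f (w * x * w⁻¹) = s (f x)) ∧ (∀ u ∈ U, ψ (w * u * w⁻¹) = s (ψ u)) ∧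
      (∀ x ∈ H, (f x ^ p = f x ↔ ∃ c ∈ W2, x⁻¹ * c ∈ H0)) ∧ (∃ c ∈ W2, f c = 1) := by
  obtain ⟨V, _, _, A, _, _, f, π, ρ, σ, T, m⟩ := k.exists_model_of_card d hp hcard hw hw1
  obtain ⟨e, he, hTe⟩ := m.lin.exists_fixed
  obtain ⟨h, hh, rfl⟩ := m.f_surj e
  obtain ⟨c, hc, hc'⟩ := (m.fix h hh).mp hTe
  have hfc : f c = f h := ((m.f_eq_iff hh (d.W2_le hc)).mpr hc').symm
  obtain ⟨F, _, _, φ, ψ, s, hF, hinj, hact, hT, hσ, hone, -, hord, hsfix⟩ :=
    m.lin.exists_field ((m.isGalois_iff).mp hgal) he hTe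
  refine ⟨F, inferInstance, inferInstance, fun g => φ (f g), fun g => (ψ (π g) : F), s, hF, hord, hsfix,
    fun x hx y hy => ?_, fun x hx => ?_, fun v => ?_, fun u hu => ⟨Units.ne_zero _, fun x hx => ?_⟩,
    fun u hu v hv => ?_, fun u hu => ?_, fun x hx => ?_, fun u hu => ?_, fun x hx => ?_, c, hc, ?_⟩
  · show φ (f (x * y)) = φ (f x) + φ (f y)
    rw [m.f_mul x hx y hy, map_add]
  · show φ (f x) = 0 ↔ _
    rw [map_eq_zero_iff _ φ.injective, m.f_zero x hx]
  · obtain ⟨x, hx, hxv⟩ := m.f_surj (φ.symm v)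
    exact ⟨x, hx, by show φ (f x) = v; rw [hxv, AddEquiv.apply_symm_apply]⟩
  · show φ (f _) = _
    rw [m.act u hu x hx, hact]
  · show ((ψ (π (u * v)) : Fˣ) : F) = ψ (π u) * ψ (π v)
    rw [m.π_mul u hu v hv, map_mul, Units.val_mul]
  · show ((ψ (π u) : Fˣ) : F) = 1 ↔ _
    rw [Units.val_eq_one, ← map_one ψ, hinj.eq_iff, m.π_one u hu]
  · show φ (f _) = s (φ (f x))
    rw [m.act_w x hx, hT]
  · show ((ψ (π _) : Fˣ) : F) = s (ψ (π u) : F)
    rw [m.π_w u hu, hσ]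
  · show φ (f x) ^ p = φ (f x) ↔ _
    rw [← hsfix, ← hT, φ.injective.eq_iff, m.fix x hx]
  · show φ (f c) = 1
    rw [hfc, hone]

/-- PF (9.7)(b): the arithmetic of the Galois case. -/
theorem galois_facts (k : IsCoreKernel M H U H0) (d : TypeData M H U W1 W2 q) (hp : p.Prime)
    (hcard : Nat.card H = Nat.card H0 * p ^ q) (hgal : IsGalois H U H0) :
    ((kernelC H U H0).relIndex U).Coprime (p - 1) ∧ (kernelC H U H0).relIndex U ∣ (p ^ q - 1) / (p - 1) ∧
      (∀ r, r ∣ (kernelC H U H0).relIndex U → r % q = 1) ∧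
      ∀ u ∈ U, u ∉ kernelC H U H0 → ∀ h ∈ H, u * h * u⁻¹ * h⁻¹ ∈ H0 → h ∈ H0 := by
  obtain ⟨w, hw, hw1⟩ := d.exists_W1
  obtain ⟨V, _, _, A, _, _, f, π, ρ, σ, T, m⟩ := k.exists_model_of_card d hp hcard hw hw1
  have hg := (m.isGalois_iff).mp hgal
  rw [← m.card_A]
  refine ⟨(m.lin.galois_card hg).1, (m.lin.galois_card hg).2, fun r hr => m.lin.galois_dvd_mod hg hr,
    fun u hu huC h hh hfix => (m.f_zero h hh).mp (m.lin.galois_fpf hg (fun e => huC ((m.π_one u hu).mp e)) ?_)⟩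
  have hconj := (mem_normalizer_iff.mp (m.U_norm hu) h).mp hh
  rw [← m.act u hu h hh]
  refine ((m.f_eq_iff hh hconj).mpr ?_).symm
  have := (mem_normalizer_iff.mp (k.H_normalizes d (H.inv_mem hh)) _).mp hfix
  simpa [mul_assoc] using this

/-- PF (9.7)(a): the arithmetic of the non-Galois case. -/
theorem nonGalois_facts (k : IsCoreKernel M H U H0) (d : TypeData M H U W1 W2 q) (hp : p.Prime)
    (hcard : Nat.card H = Nat.card H0 * p ^ q) (hgal : ¬ IsGalois H U H0) :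
    ∃ a : ℕ, Odd a ∧ 3 ≤ a ∧ 2 * a ∣ p - 1 ∧ a ∣ (kernelC H U H0).relIndex U ∧
      (kernelC H U H0).relIndex U ∣ a ^ (q - 1) ∧ ∀ u ∈ U, u ^ a ∈ kernelC H U H0 := by
  obtain ⟨w, hw, hw1⟩ := d.exists_W1
  obtain ⟨V, _, _, A, _, _, f, π, ρ, σ, T, m⟩ := k.exists_model_of_card d hp hcard hw hw1
  obtain ⟨h, lam, L⟩ := m.lin.exists_lineBasis fun h => hgal ((m.isGalois_iff).mpr h)
  have hodd : Odd (Nat.card A) := m.card_A ▸ (k.index_facts d hp hcard).2.1
  obtain ⟨h1, h2, h3⟩ := L.range_odd m.lin hodd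
  refine ⟨Nat.card lam.range, h1, h2, h3 (k.prime_unique d hp hcard).2.2.1, ?_, ?_, fun u hu => ?_⟩
  · rw [← m.card_A]; exact L.range_dvd_card
  · rw [← m.card_A]; exact L.card_dvd m.lin
  · rw [← m.π_one _ (U.pow_mem hu _)]
    have hpow : ∀ n : ℕ, π (u ^ n) = π u ^ n := by
      intro n
      induction n with
      | zero => rw [pow_zero, pow_zero, m.π_map_one]
      | succ n ih => rw [pow_succ, m.π_mul _ (U.pow_mem hu n) _ hu, ih, pow_succ]
    rw [hpow]
    exact L.pow_range_card m.lin _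

end CfsgLib.OddOrder.S9.IsCoreKernel
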