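import Cfsg.Agent.Lib.MinSimpleOdd.TypeP
import Cfsg.Agent.Lib.FrobAction.Order
import Cfsg.Agent.S1437

/-!
Peterfalvi (9.1)-(9.3): the group theoretic input of section 9 and the first fixed point counts.
-/

set_option autoImplicit false
set_option linter.unusedSectionVars false
set_option linter.style.haveILetI false

namespace CfsgLib.OddOrder.S9

open Subgroup Cfsg CfsgLib.MinSimpleOdd
open scoped Pointwise commutatorElement

universe u

variable {G : Type u} [Group G] [Finite G]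

/-- The data of a maximal subgroup `M = (H U) W1` of type II, III or IV. -/
structure TypeData (M H U W1 W2 : Subgroup G) (q : ℕ) : Prop where
  H_le : H ≤ M
  U_le : U ≤ M
  W_le : W1 ≤ M
  odd : Odd (Nat.card M)
  H_normal : M ≤ normalizer (H : Set G)
  H_nil : Group.IsNilpotent H
  U_norm : W1 ≤ normalizer (U : Set G)
  compl_U : IsComplIn H U ⁅M, M⁆
  compl_W : IsComplIn ⁅M, M⁆ W1 M
  copHU : (Nat.card H).Coprime (Nat.card U)
  copW : (Nat.card W1).Coprime (Nat.card (⁅M, M⁆ : Subgroup G))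
  hq : q.Prime
  cardW : Nat.card W1 = q
  U_ne : U ≠ ⊥
  W2_eq : ∀ x ∈ W1, x ≠ 1 → ⁅M, M⁆ ⊓ centralizer ({x} : Set G) = W2
  W2_le : W2 ≤ H
  W2_cyc : IsCyclic W2
  W2_ne : W2 ≠ ⊥
  U_der : (⁅U, U⁆ : Subgroup G) ≤ centralizer (H : Set G)
  moves : ¬ U ≤ centralizer (H : Set G)

theorem centralizer_sup' (A B : Subgroup G) :
    centralizer ((A ⊔ B : Subgroup G) : Set G) = centralizer (A : Set G) ⊓ centralizer (B : Set G) := by
  refine le_antisymm (le_inf (centralizer_le (SetLike.coe_subset_coe.mpr le_sup_left))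
    (centralizer_le (SetLike.coe_subset_coe.mpr le_sup_right))) fun x hx => ?_
  have hle : A ⊔ B ≤ centralizer ({x} : Set G) := sup_le
    (fun a ha => mem_centralizer_singleton_iff.mpr (hx.1 a ha))
    (fun b hb => mem_centralizer_singleton_iff.mpr (hx.2 b hb))
  exact fun y hy => mem_centralizer_singleton_iff.mp (hle hy)

theorem relIndex_of_compl {A B M : Subgroup G} (h : IsComplIn A B M) : A.relIndex M = Nat.card B := by
  refine Nat.eq_of_mul_eq_mul_left (Nat.card_pos (α := A)) ?_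
  rw [← relIndex_bot_left A, relIndex_mul_relIndex _ _ _ bot_le h.1, relIndex_bot_left, relIndex_bot_left,
    card_complIn h]

namespace TypeData

variable {M H U W1 W2 : Subgroup G} {q : ℕ} (d : TypeData M H U W1 W2 q)
include d

theorem H_le_der : H ≤ ⁅M, M⁆ := d.compl_U.1

theorem U_le_der : U ≤ ⁅M, M⁆ := d.compl_U.2.1

theorem inf_HU : H ⊓ U = ⊥ := d.compl_U.2.2.1

theorem card_M : Nat.card M = Nat.card H * Nat.card U * q := by
  rw [card_complIn d.compl_W, card_complIn d.compl_U, d.cardW]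

theorem q_not_dvd_der : ¬ q ∣ Nat.card (⁅M, M⁆ : Subgroup G) :=
  d.hq.coprime_iff_not_dvd.mp (d.cardW ▸ d.copW)

theorem q_not_dvd_U : ¬ q ∣ Nat.card U := fun h => d.q_not_dvd_der (h.trans (card_dvd_of_le d.U_le_der))

theorem q_not_dvd_H : ¬ q ∣ Nat.card H := fun h => d.q_not_dvd_der (h.trans (card_dvd_of_le d.H_le_der))

theorem W1_ne : W1 ≠ ⊥ := fun e => d.hq.ne_one (by rw [← d.cardW, e, card_bot])

/-- A subgroup normalised by `H`, `U` and `W1` is normalised by `M`. -/
theorem le_normalizer {X : Subgroup G} (hH : H ≤ normalizer (X : Set G)) (hU : U ≤ normalizer (X : Set G))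
    (hW : W1 ≤ normalizer (X : Set G)) : M ≤ normalizer (X : Set G) := fun m hm => by
  obtain ⟨a, ha, w, hw, rfl⟩ := d.compl_W.2.2.2 m hm
  obtain ⟨h, hh, u, hu, rfl⟩ := d.compl_U.2.2.2 a ha
  exact mul_mem (mul_mem (hH hh) (hU hu)) (hW hw)

theorem le_sup : M ≤ H ⊔ U ⊔ W1 := fun m hm => by
  obtain ⟨a, ha, w, hw, rfl⟩ := d.compl_W.2.2.2 m hm
  obtain ⟨h, hh, u, hu, rfl⟩ := d.compl_U.2.2.2 a ha
  exact mul_mem (mem_sup_left (mul_mem_sup hh hu)) (mem_sup_right hw)

theorem zpowers_eq {x : G} (hx : x ∈ W1) (hx1 : x ≠ 1) : zpowers x = W1 := by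
  haveI := Fact.mk d.hq
  refine Subgroup.eq_of_le_of_card_ge (zpowers_le.mpr hx) ?_
  rw [d.cardW, Nat.card_zpowers]
  have hd : orderOf x ∣ q := d.cardW ▸ (Nat.card_zpowers x ▸ card_dvd_of_le (zpowers_le.mpr hx))
  rcases (Nat.dvd_prime d.hq).mp hd with h | h
  · exact absurd (orderOf_eq_one_iff.mp h) hx1
  · omega

theorem exists_W1 : ∃ w ∈ W1, w ≠ 1 := by
  obtain ⟨⟨w, hw⟩, hw1⟩ := ne_bot_iff_exists_ne_one.mp d.W1_ne
  exact ⟨w, hw, fun e => hw1 (Subtype.ext e)⟩

theorem H_centralizer {x : G} (hx : x ∈ W1) (hx1 : x ≠ 1) : H ⊓ centralizer ({x} : Set G) = W2 := by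
  refine le_antisymm ?_ fun y hy => ⟨d.W2_le hy, ((d.W2_eq x hx hx1).ge hy).2⟩
  rw [← d.W2_eq x hx hx1]
  exact inf_le_inf_right _ d.H_le_der

theorem H_centralizer_W1 : H ⊓ centralizer (W1 : Set G) = W2 := by
  obtain ⟨w, hw, hw1⟩ := d.exists_W1
  refine le_antisymm ?_ fun y hy => ⟨d.W2_le hy, ?_⟩
  · rw [← d.H_centralizer hw hw1]
    exact inf_le_inf_left _ (centralizer_le (Set.singleton_subset_iff.mpr hw))
  · intro x hx
    rcases eq_or_ne x 1 with rfl | hx1
    · rw [one_mul, mul_one]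
    · exact (mem_centralizer_singleton_iff.mp ((d.W2_eq x hx hx1).ge hy).2).symm

/-- PF (9.2): `U W1` is a Frobenius group. -/
theorem fpf {x : G} (hx : x ∈ W1) (hx1 : x ≠ 1) : U ⊓ centralizer ({x} : Set G) = ⊥ := by
  refine le_bot_iff.mp (le_trans (le_inf inf_le_left ?_) (inf_comm (a := H) (b := U) ▸ d.inf_HU).le)
  calc U ⊓ centralizer ({x} : Set G) ≤ ⁅M, M⁆ ⊓ centralizer ({x} : Set G) := inf_le_inf_right _ d.U_le_der
    _ = W2 := d.W2_eq x hx hx1
    _ ≤ H := d.W2_le

theorem fpf' : ∀ e ∈ W1, e ≠ 1 → ∀ u ∈ U, e * u = u * e → u = 1 := fun e he he1 u hu h => by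
  have : u ∈ U ⊓ centralizer ({e} : Set G) := ⟨hu, mem_centralizer_singleton_iff.mpr h.symm⟩
  rwa [d.fpf he he1, mem_bot] at this

theorem U_nil : Group.IsNilpotent U :=
  CfsgLib.FrobAction.isNilpotent_of_fpf_operators U W1 d.W1_ne d.U_norm d.fpf'

theorem inf_UW : U ⊓ W1 = ⊥ :=
  le_bot_iff.mp ((inf_le_inf_right _ d.U_le_der).trans d.compl_W.2.2.1.le)

theorem card_UW : Nat.card ↥(U ⊔ W1) = Nat.card U * q := by
  have h := card_complIn (complIn_sup d.U_norm (inf_comm (a := U) (b := W1) ▸ d.inf_UW))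
  rw [sup_comm, d.cardW] at h
  rw [h, mul_comm]

theorem UW_le : U ⊔ W1 ≤ M := sup_le d.U_le d.W_le

theorem UW_normalizes : U ⊔ W1 ≤ normalizer (H : Set G) := d.UW_le.trans d.H_normal

theorem cop_UW : (Nat.card ↥(U ⊔ W1)).Coprime (Nat.card H) := by
  rw [d.card_UW]
  exact Nat.Coprime.mul_left d.copHU.symm (d.hq.coprime_iff_not_dvd.mpr d.q_not_dvd_H)

theorem cop_W1_H : (Nat.card W1).Coprime (Nat.card H) := d.copW.coprime_dvd_right (card_dvd_of_le d.H_le_der)

theorem solvable_H : Group.IsSolvable H := by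
  haveI := d.H_nil
  infer_instance

theorem centralizer_UW_eq : H ⊓ centralizer ((U ⊔ W1 : Subgroup G) : Set G) = W2 ⊓ centralizer (U : Set G) := by
  rw [centralizer_sup', inf_comm (a := centralizer (U : Set G)), ← inf_assoc, d.H_centralizer_W1]

/-- PF (9.3)(a). -/
theorem order_W2 :
    Nat.card ↥(W2 ⊓ centralizer (U : Set G)) ^ q * Nat.card H =
      Nat.card W2 ^ q * Nat.card ↥(H ⊓ centralizer (U : Set G)) := by
  haveI := d.U_nil
  have h := CfsgLib.FrobAction.order_formula U W1 d.U_norm d.fpf' H d.UW_normalizes d.cop_UW d.solvable_H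
  rwa [d.centralizer_UW_eq, d.H_centralizer_W1, d.cardW] at h

/-- PF (9.3)(b). -/
theorem card_H_of_fixed_bot (h : H ⊓ centralizer (U : Set G) = ⊥) : Nat.card H = Nat.card W2 ^ q := by
  have h1 := d.order_W2
  rwa [h, card_bot, mul_one, le_bot_iff.mp ((inf_le_inf_right _ d.W2_le).trans h.le), card_bot, one_pow,
    one_mul] at h1

/-- PF (9.3)(c). -/
theorem of_prime_W2 (hp : (Nat.card W2).Prime) :
    W2 ⊓ centralizer (U : Set G) = ⊥ ∧
      Nat.card H = Nat.card W2 ^ q * Nat.card ↥(H ⊓ centralizer (U : Set G)) := by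
  have h1 := d.order_W2
  have hbot : W2 ⊓ centralizer (U : Set G) = ⊥ := by
    rcases (Nat.dvd_prime hp).mp (card_dvd_of_le (inf_le_left : W2 ⊓ centralizer (U : Set G) ≤ W2)) with h | h
    · exact card_eq_one.mp h
    · rw [h] at h1
      have he : H ⊓ centralizer (U : Set G) = H := Subgroup.eq_of_le_of_card_ge inf_le_left
        (le_of_eq (Nat.eq_of_mul_eq_mul_left (pow_pos hp.pos q) h1))
      exact absurd (le_centralizer_iff.mp (inf_eq_left.mp he)) d.moves
  rw [hbot, card_bot, one_pow, one_mul] at h1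
  exact ⟨hbot, h1⟩

end TypeData

variable {M K U W1 W2 : Subgroup G}

/-- The data of a subgroup of type P with nontrivial `U` and `W1` of prime order. -/
theorem typeData_of_typePWith (hG : IsMinSimpleOddOrder G) (hM : IsCoatom M) (hP : IsTypePWith M W1 U W2)
    (hU : U ≠ ⊥) (hq : (Nat.card W1).Prime) :
    TypeData M (fittingHallOf M) U W1 W2 (Nat.card W1) := by
  have hUM : U ≤ M := hP.U_compl.2.1.trans (commutator_le_self M)
  have hHM : fittingHallOf M ≤ M := fittingHallOf_le M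
  have hcard := card_complIn hP.U_compl
  have hcardM := card_complIn hP.W₁_compl
  have hidx : (fittingHallOf M).relIndex M = Nat.card U * Nat.card W1 := by
    rw [← relIndex_mul_relIndex _ _ _ hP.U_compl.1 (commutator_le_self M), relIndex_of_compl hP.U_compl,
      relIndex_of_compl hP.W₁_compl]
  have hcop := (fittingHallOf_hall hG hM).1
  rw [hidx] at hcop
  have hcopHU : (Nat.card (fittingHallOf M)).Coprime (Nat.card U) := hcop.coprime_dvd_right (dvd_mul_right _ _)
  have hcopW : (Nat.card W1).Coprime (Nat.card (⁅M, M⁆ : Subgroup G)) := by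
    have h := hP.W₁_hall
    rwa [show W1.relIndex M = Nat.card (⁅M, M⁆ : Subgroup G) by
      refine Nat.eq_of_mul_eq_mul_left (Nat.card_pos (α := W1)) ?_
      rw [← relIndex_bot_left W1, relIndex_mul_relIndex _ _ _ bot_le hP.W₁_compl.2.1, relIndex_bot_left,
        relIndex_bot_left, hcardM, mul_comm]] at h
  have hW2le : W2 ≤ fittingHallOf M := hP.W₂_le.trans inf_le_left
  refine
    { H_le := hHM
      U_le := hUM
      W_le := hP.W₁_compl.2.1
      odd := Odd.of_dvd_nat hG.1 (card_subgroup_dvd_card M)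
      H_normal := le_normalizer_fittingHallOf M
      H_nil := fittingHallOf_nilpotent M
      U_norm := hP.U_normal
      compl_U := hP.U_compl
      compl_W := hP.W₁_compl
      copHU := hcopHU
      copW := hcopW
      hq := hq
      cardW := rfl
      U_ne := hU
      W2_eq := hP.W₂_centralizer
      W2_le := hW2le
      W2_cyc := ?_
      W2_ne := hP.selfNormalizing.2.1
      U_der := ?_
      moves := ?_ }
  · haveI := hP.selfNormalizing.2.2.2.2.1
    exact isCyclic_of_injective (inclusion (le_sup_right : W2 ≤ W1 ⊔ W2)) (inclusion_injective _)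
  · intro x hx
    have hxU : x ∈ U := commutator_le_self U hx
    have hxF := hP.derived_two_le (commutator_mono hP.U_compl.2.1 hP.U_compl.2.1 hx)
    have hHn : (M ⊓ centralizer (fittingHallOf M : Set G)) ≤ normalizer (fittingHallOf M : Set G) :=
      inf_le_left.trans (le_normalizer_fittingHallOf M)
    obtain ⟨h, hh, c, hc, he⟩ := CfsgLib.mem_sup_of_le_normalizer hHn hxF
    have hcomm : Commute h c := (mem_inf.mp hc).2 h hh
    have h1 : x ^ Nat.card (fittingHallOf M) ∈ centralizer (fittingHallOf M : Set G) := by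
      rw [← he, hcomm.mul_pow, show h ^ Nat.card (fittingHallOf M) = 1 from congrArg Subtype.val
        (pow_card_eq_one' (x := (⟨h, hh⟩ : fittingHallOf M))), one_mul]
      exact pow_mem (mem_inf.mp hc).2 _
    have h2 : (Nat.card (fittingHallOf M)).Coprime (orderOf x) :=
      hcopHU.coprime_dvd_right ((Nat.card_zpowers x) ▸ card_dvd_of_le (zpowers_le.mpr hxU))
    obtain ⟨m, hm⟩ := exists_pow_eq_self_of_coprime h2
    rw [← hm]
    exact pow_mem h1 _
  · intro hc
    have hn : M ≤ normalizer (U : Set G) := fun m hm => by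
      obtain ⟨a, ha, w, hw, rfl⟩ := hP.W₁_compl.2.2.2 m hm
      obtain ⟨h, hh, u, hu, rfl⟩ := hP.U_compl.2.2.2 a ha
      exact mul_mem (mul_mem (centralizer_le_normalizer _ (le_centralizer_iff.mp hc hh))
        (Subgroup.le_normalizer hu)) (hP.U_normal hw)
    have hUidx : U.relIndex M = Nat.card (fittingHallOf M) * Nat.card W1 := by
      refine Nat.eq_of_mul_eq_mul_left (Nat.card_pos (α := U)) ?_
      rw [← relIndex_bot_left U, relIndex_mul_relIndex _ _ _ bot_le hUM, relIndex_bot_left, relIndex_bot_left,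
        hcardM, hcard]
      ring
    have hle : U ≤ fittingHallOf M := le_fittingHallOf_of_normal hUM hn hP.U_nilpotent (by
      rw [hUidx]
      exact Nat.Coprime.mul_right hcopHU.symm (hcopW.coprime_dvd_right (card_dvd_of_le hP.U_compl.2.1)).symm)
    exact hU (le_bot_iff.mp (hP.U_compl.2.2.1 ▸ le_inf hle le_rfl))

/-- Type II: the data of a standard factorisation with `K ≠ 1 ≠ U`. -/
theorem typeData_two (hG : IsMinSimpleOddOrder G) (hM : IsCoatom M) (h : IsSigmaDecomposition M K U)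
    (hK : K ≠ ⊥) (hU : U ≠ ⊥) :
    TypeData M (fittingHallOf M) U K (fixedCore M K) (Nat.card K) ∧ fittingHallOf M = sigmaCore M ∧
      IsMulCommutative U ∧ fittingHallOf M ⊓ centralizer (U : Set G) = ⊥ := by
  obtain ⟨U', hP, h1, -⟩ := exists_typeP hG hM h hK
  obtain ⟨rfl, hH⟩ := h1 hU
  obtain ⟨-, hs⟩ := decomp_split hG hM h hK
  obtain ⟨-, hfix, hq⟩ := hs.two hU
  exact ⟨typeData_of_typePWith hG hM hP hU hq, hH, hs.comm, hH ▸ hfix⟩

/-- Types III and IV: the data when `U = 1` and `M_F ≠ M_σ`. -/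
theorem typeData_three (hG : IsMinSimpleOddOrder G) (hM : IsCoatom M) (h : IsSigmaDecomposition M K U)
    (hK : K ≠ ⊥) (hne : fittingHallOf M ≠ sigmaCore M) :
    ∃ U', TypeData M (fittingHallOf M) U' K (fixedCore M K) (Nat.card K) ∧
      IsTypePWith M K U' (fixedCore M K) ∧ sigmaCore M = ⁅M, M⁆ ∧ (Nat.card (fixedCore M K)).Prime := by
  obtain ⟨hU, hder, hq, hp, -⟩ := Cfsg.Agent.S1437.result hG M hM K U h hne
  obtain ⟨U', hP, -, h2⟩ := exists_typeP hG hM h hK
  exact ⟨U', typeData_of_typePWith hG hM hP (fun e => hne ((h2 hU).mp e)) hq, hP, hder, hp⟩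

end CfsgLib.OddOrder.S9
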