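import Mathlib

/-!
Peterfalvi (9.7) as linear algebra: an abelian group `A` of operators on an elementary abelian group `V`
of order `p ^ q`, extended by an operator `T` of prime order `q`.
-/

set_option autoImplicit false
set_option linter.unusedSectionVars false
set_option linter.style.haveILetI false
set_option linter.deprecated false

namespace CfsgLib.OddOrder.S9

universe u v

variable {V : Type u} [AddCommGroup V] {A : Type v} [CommGroup A] {p q : ℕ}

/-- The hypotheses of the dichotomy. -/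
structure LinearData (p q : ℕ) (ρ : A →* AddMonoid.End V) (σ : MulAut A) (T : AddMonoid.End V) : Prop where
  hp : p.Prime
  hq : q.Prime
  exp : ∀ v : V, p • v = 0
  card : Nat.card V = p ^ q
  inj : Function.Injective ρ
  sigma_pow : σ ^ q = 1
  sigma_fpf : ∀ a, σ a = a → a = 1
  nontriv : Nontrivial A
  T_pow : T ^ q = 1
  twist : ∀ a v, T (ρ a v) = ρ (σ a) (T v)
  irred : ∀ W : AddSubgroup V, (∀ a, ∀ v ∈ W, ρ a v ∈ W) → (∀ v ∈ W, T v ∈ W) → W = ⊥ ∨ W = ⊤
  fixed : Nat.card {v // T v = v} = p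

/-- The abelian group of operators is irreducible. -/
def IsGaloisAction (ρ : A →* AddMonoid.End V) : Prop :=
  ∀ W : AddSubgroup V, (∀ a, ∀ v ∈ W, ρ a v ∈ W) → W = ⊥ ∨ W = ⊤

variable [Finite V] [Finite A] {ρ : A →* AddMonoid.End V} {σ : MulAut A} {T : AddMonoid.End V}

theorem one_apply' (x : V) : (1 : AddMonoid.End V) x = x := rfl

theorem mul_apply' (f g : AddMonoid.End V) (x : V) : (f * g) x = f (g x) := rfl

theorem rho_mul_apply (a b : A) (x : V) : ρ (a * b) x = ρ a (ρ b x) := by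
  rw [map_mul]; rfl

theorem rho_one_apply (x : V) : ρ 1 x = x := by
  rw [map_one]; rfl

theorem rho_injective (a : A) : Function.Injective (ρ a) := fun x y h => by
  have h' : ρ (a⁻¹ * a) x = ρ (a⁻¹ * a) y := by rw [rho_mul_apply, rho_mul_apply, h]
  rwa [inv_mul_cancel, rho_one_apply, rho_one_apply] at h'

namespace LinearData

theorem one_lt_q (d : LinearData p q ρ σ T) : 1 < q := d.hq.one_lt

theorem T_succ (d : LinearData p q ρ σ T) (x : V) : (T ^ (q - 1)) (T x) = x := by
  rw [← mul_apply', ← pow_succ, Nat.sub_add_cancel d.hq.one_le, d.T_pow]; rfl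

theorem T_injective (d : LinearData p q ρ σ T) : Function.Injective T := fun x y h => by
  have := congrArg (T ^ (q - 1)) h
  rwa [d.T_succ, d.T_succ] at this

theorem T_pow_injective (d : LinearData p q ρ σ T) (i : ℕ) : Function.Injective (T ^ i : AddMonoid.End V) := by
  induction i with
  | zero => exact fun _ _ h => h
  | succ i ih => exact fun x y h => d.T_injective (ih (by rwa [pow_succ, mul_apply', mul_apply'] at h))

theorem twist_pow (d : LinearData p q ρ σ T) (i : ℕ) (a : A) (x : V) :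
    (T ^ i) (ρ a x) = ρ ((σ ^ i) a) ((T ^ i) x) := by
  induction i generalizing a x with
  | zero => rfl
  | succ i ih => rw [pow_succ, pow_succ, mul_apply', mul_apply', d.twist, ih]; rfl

/-- A fixed vector of `T`. -/
theorem exists_fixed (d : LinearData p q ρ σ T) : ∃ e : V, e ≠ 0 ∧ T e = e := by
  by_contra hne
  push Not at hne
  have : Nat.card {v // T v = v} = 1 := Nat.card_eq_one_iff_unique.mpr
    ⟨⟨fun x y => Subtype.ext (by
      rcases eq_or_ne (x : V) 0 with hx | hx
      · rcases eq_or_ne (y : V) 0 with hy | hy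
        · rw [hx, hy]
        · exact absurd y.2 (hne _ hy)
      · exact absurd x.2 (hne _ hx))⟩, ⟨⟨0, map_zero T⟩⟩⟩
  rw [d.fixed] at this
  exact d.hp.ne_one this

theorem fixed_eq (d : LinearData p q ρ σ T) {e : V} (he : e ≠ 0) (hTe : T e = e) {v : V} (hv : T v = v) :
    ∃ k : ℕ, v = k • e := by
  have hord : addOrderOf e = p := (d.hp.eq_one_or_self_of_dvd _
    (addOrderOf_dvd_of_nsmul_eq_zero (d.exp e))).resolve_left fun h => he (AddMonoid.addOrderOf_eq_one_iff.mp h)
  let f : Fin p → {v // T v = v} := fun k => ⟨(k : ℕ) • e, by rw [map_nsmul, hTe]⟩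
  have hf : Function.Injective f := fun i j h => by
    have h' : (i : ℕ) • e = (j : ℕ) • e := congrArg Subtype.val h
    rw [nsmul_eq_nsmul_iff_modEq, hord] at h'
    exact Fin.ext (by rw [← Nat.mod_eq_of_lt i.2, ← Nat.mod_eq_of_lt j.2]; exact h')
  obtain ⟨k, hk⟩ := ((Nat.bijective_iff_injective_and_card f).mpr
    ⟨hf, by rw [Nat.card_fin, d.fixed]⟩).2 ⟨v, hv⟩
  exact ⟨k, (congrArg Subtype.val hk).symm⟩

theorem sigma_pow_apply (d : LinearData p q ρ σ T) (a : A) : (σ ^ q) a = a := by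
  rw [d.sigma_pow]; rfl

/-- A product over an orbit of `σ` is trivial. -/
theorem prod_orbit (d : LinearData p q ρ σ T) (a : A) : ∏ i ∈ Finset.range q, (σ ^ i) a = 1 := by
  refine d.sigma_fpf _ ?_
  rw [map_prod]
  have h1 : ∀ i, σ ((σ ^ i) a) = (σ ^ (i + 1)) a := fun i => by rw [pow_succ']; rfl
  rw [Finset.prod_congr rfl fun i _ => h1 i]
  have h2 := (Finset.prod_range_succ' (fun i => (σ ^ i) a) q).symm.trans
    (Finset.prod_range_succ (fun i => (σ ^ i) a) q)
  simp only [d.sigma_pow_apply, pow_zero, MulAut.one_apply] at h2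
  exact mul_right_cancel h2

/-- `σ` has no fixed point in any power either, so `|A| ≡ 1 (mod q)` on invariant subgroups. -/
theorem card_subgroup_mod (d : LinearData p q ρ σ T) (B : Subgroup A) (hB : ∀ b ∈ B, σ b ∈ B) :
    Nat.card B % q = 1 := by
  haveI := Fact.mk d.hq
  let s : B → B := fun b => ⟨σ b, hB b b.2⟩
  have hs : ∀ (n : ℕ) (b : B), ((s^[n] b : B) : A) = (σ ^ n) b := by
    intro n
    induction n with
    | zero => exact fun b => rfl
    | succ n ih => exact fun b => by rw [Function.iterate_succ_apply', pow_succ']; exact congrArg σ (ih b)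
  let e : Equiv.Perm B := ⟨s, s^[q - 1], fun b => Subtype.ext (by
    rw [← Function.iterate_succ_apply s (q - 1) b, hs, Nat.succ_eq_add_one, Nat.sub_add_cancel d.hq.one_le,
      d.sigma_pow_apply]), fun b => Subtype.ext (by
    rw [← Function.iterate_succ_apply' s (q - 1) b, hs, Nat.succ_eq_add_one, Nat.sub_add_cancel d.hq.one_le,
      d.sigma_pow_apply])⟩
  have he : e ^ q = 1 := Equiv.ext fun b => Subtype.ext (by
    rw [Equiv.Perm.coe_pow, show (⇑e : B → B) = s from rfl, hs, d.sigma_pow_apply]; rfl)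
  haveI := Fintype.ofFinite B
  haveI := Classical.decEq B
  have h := Equiv.Perm.card_compl_support_modEq (n := 1) (p := q) (σ := e) (by rwa [pow_one])
  have hsupp : e.supportᶜ = {1} := by
    ext b
    rw [Finset.mem_compl, Equiv.Perm.mem_support, not_not, Finset.mem_singleton]
    refine ⟨fun hb => Subtype.ext (d.sigma_fpf _ (congrArg Subtype.val hb)), ?_⟩
    rintro rfl
    exact Subtype.ext (map_one σ)
  rw [hsupp, Finset.card_singleton, ← Nat.card_eq_fintype_card] at h
  have h' : 1 % q = Nat.card B % q := h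
  rw [← h', Nat.mod_eq_of_lt d.one_lt_q]

theorem card_mod (d : LinearData p q ρ σ T) : Nat.card A % q = 1 := by
  rw [← Subgroup.card_top]
  exact d.card_subgroup_mod ⊤ fun _ _ => Subgroup.mem_top _

/-- In the irreducible case `V` is a field on which `A` acts by multiplication and `T` as an automorphism. -/
theorem exists_field (d : LinearData p q ρ σ T) (hgal : IsGaloisAction ρ) {e : V} (he : e ≠ 0) (hTe : T e = e) :
    ∃ (F : Type u) (_ : Field F) (_ : Fintype F) (φ : V ≃+ F) (ψ : A →* Fˣ) (s : F ≃+* F),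
      Fintype.card F = p ^ q ∧ Function.Injective ψ ∧ (∀ a v, φ (ρ a v) = (ψ a : F) * φ v) ∧
      (∀ v, φ (T v) = s (φ v)) ∧ (∀ a, (ψ (σ a) : F) = s (ψ a)) ∧ φ e = 1 ∧
      s ^ q = 1 ∧ orderOf s = q ∧ (∀ x, s x = x ↔ x ^ p = x) := by
  classical
  haveI : Finite (AddMonoid.End V) :=
    Finite.of_injective (fun f : AddMonoid.End V => (f : V → V)) DFunLike.coe_injective
  set R : Subring (AddMonoid.End V) := Subring.closure (Set.range ρ) with hR
  have hgen : ∀ a, ρ a ∈ R := fun a => Subring.subset_closure ⟨a, rfl⟩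
  have hcomm : ∀ x ∈ Set.range ρ, ∀ y ∈ Set.range ρ, x * y = y * x := by
    rintro _ ⟨a, rfl⟩ _ ⟨b, rfl⟩
    rw [← map_mul, mul_comm, map_mul]
  letI : CommRing R := Subring.closureCommRingOfComm hcomm
  have hRc : ∀ x ∈ R, ∀ y ∈ R, x * y = y * x := fun x hx y hy =>
    congrArg Subtype.val (mul_comm (⟨x, hx⟩ : R) ⟨y, hy⟩)
  let ev : R →+ V :=
    { toFun := fun r => (r : AddMonoid.End V) e
      map_zero' := rfl
      map_add' := fun r t => rfl }
  have hsurj : Function.Surjective ev := by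
    rcases hgal ev.range (fun a v hv => by
      obtain ⟨r, rfl⟩ := hv
      exact ⟨⟨ρ a, hgen a⟩ * r, rfl⟩) with h | h
    · exact absurd ((AddSubgroup.mem_bot).mp (h.le ⟨1, rfl⟩ : e ∈ (⊥ : AddSubgroup V))) he
    · exact AddMonoidHom.range_eq_top.mp h
  have hinj : Function.Injective ev := (injective_iff_map_eq_zero ev).mpr fun r hr => by
    refine Subtype.ext (AddMonoidHom.ext fun v => ?_)
    obtain ⟨t, rfl⟩ := hsurj v
    show (r : AddMonoid.End V) ((t : AddMonoid.End V) e) = 0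
    rw [← mul_apply', hRc r r.2 t t.2, mul_apply', show (r : AddMonoid.End V) e = 0 from hr, map_zero]
  let φ₀ : R ≃+ V := AddEquiv.ofBijective ev ⟨hinj, hsurj⟩
  have hφ₀ : ∀ r : R, φ₀ r = (r : AddMonoid.End V) e := fun r => rfl
  haveI : Nontrivial R := ⟨⟨0, 1, fun h => he (by
    have := congrArg (fun r : R => (r : AddMonoid.End V) e) h
    exact this.symm)⟩⟩
  haveI : NoZeroDivisors R := ⟨fun {r t} hrt => by
    by_contra hne
    push Not at hne
    have hker : ∀ a, ∀ v ∈ (r : V →+ V).ker, ρ a v ∈ (r : V →+ V).ker := fun a v hv => by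
      rw [AddMonoidHom.mem_ker] at hv ⊢
      show ((r : AddMonoid.End V) * ρ a) v = 0
      rw [hRc r r.2 _ (hgen a)]
      exact (congrArg (ρ a) hv).trans (map_zero _)
    rcases hgal (r : V →+ V).ker hker with h | h
    · refine hne.2 (hinj ?_)
      rw [map_zero]
      have hm : (t : AddMonoid.End V) e ∈ (r : V →+ V).ker :=
        congrArg (fun x : R => (x : AddMonoid.End V) e) hrt
      rwa [h, AddSubgroup.mem_bot] at hm
    · exact hne.1 (hinj ((AddMonoidHom.mem_ker).mp (h.ge (AddSubgroup.mem_top e))))⟩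
  haveI : IsDomain R := NoZeroDivisors.to_isDomain _
  haveI := Fintype.ofFinite R
  letI : Field R := Fintype.fieldOfDomain R
  have hcard : Fintype.card R = p ^ q := by
    rw [← Nat.card_eq_fintype_card, Nat.card_congr φ₀.toEquiv, d.card]
  have hT1 : T * T ^ (q - 1) = 1 := by rw [← pow_succ', Nat.sub_add_cancel d.hq.one_le, d.T_pow]
  have hT2 : T ^ (q - 1) * T = 1 := by rw [← pow_succ, Nat.sub_add_cancel d.hq.one_le, d.T_pow]
  let c : AddMonoid.End V →+* AddMonoid.End V :=
    { toFun := fun f => T * f * T ^ (q - 1)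
      map_one' := by rw [mul_one, hT1]
      map_mul' := fun f g => by
        simp only [mul_assoc]
        rw [← mul_assoc (T ^ (q - 1)) T, hT2, one_mul]
      map_zero' := by rw [mul_zero, zero_mul]
      map_add' := fun f g => by rw [mul_add, add_mul] }
  have hcρ : ∀ a, c (ρ a) = ρ (σ a) := fun a => AddMonoidHom.ext fun v => by
    show T (ρ a ((T ^ (q - 1)) v)) = _
    rw [d.twist]
    exact congrArg (ρ (σ a)) (DFunLike.congr_fun hT1 v)
  have hcR : R ≤ R.comap c := Subring.closure_le.mpr (by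
    rintro _ ⟨a, rfl⟩
    show c (ρ a) ∈ R
    rw [hcρ]
    exact hgen _)
  let s₀ : R →+* R := (c.comp R.subtype).codRestrict R fun r => hcR r.2
  let s : R ≃+* R := RingEquiv.ofBijective s₀
    (Finite.injective_iff_bijective.mp s₀.injective)
  have hs : ∀ r : R, ((s r : R) : AddMonoid.End V) = T * r * T ^ (q - 1) := fun r => rfl
  have hTpe : (T ^ (q - 1)) e = e := by
    conv_lhs => rw [← hTe]
    exact d.T_succ e
  let φ : V ≃+ R := φ₀.symm
  have hφT : ∀ v, φ (T v) = s (φ v) := fun v => φ₀.injective (by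
    rw [AddEquiv.apply_symm_apply, hφ₀, hs, mul_apply', mul_apply', hTpe, ← hφ₀, AddEquiv.apply_symm_apply])
  let ψ₀ : A →* R :=
    { toFun := fun a => ⟨ρ a, hgen a⟩
      map_one' := Subtype.ext (map_one ρ)
      map_mul' := fun a b => Subtype.ext (map_mul ρ a b) }
  let ψ : A →* Rˣ := ψ₀.toHomUnits
  have hψ : ∀ a, ((ψ a : R) : AddMonoid.End V) = ρ a := fun a => rfl
  have hψs : ∀ a, (ψ (σ a) : R) = s (ψ a) := fun a => Subtype.ext (by rw [hψ, hs, hψ]; exact (hcρ a).symm)
  have hψinj : Function.Injective ψ := fun a b h => d.inj (by rw [← hψ, ← hψ, h])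
  have hsq : s ^ q = 1 := by
    refine RingEquiv.ext fun r => φ₀.injective ?_
    have : ∀ n : ℕ, φ₀ ((s ^ n) r) = (T ^ n) (φ₀ r) := by
      intro n
      induction n with
      | zero => rfl
      | succ n ih =>
        rw [pow_succ', pow_succ', mul_apply', ← ih]
        show φ₀ (s ((s ^ n) r)) = _
        rw [show (s ^ n) r = φ (φ₀ ((s ^ n) r)) from (φ₀.symm_apply_apply _).symm, ← hφT,
          AddEquiv.apply_symm_apply, AddEquiv.apply_symm_apply]
    rw [this, d.T_pow]
    rfl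
  have hsne : s ≠ 1 := fun h => by
    haveI := d.nontriv
    obtain ⟨a, ha⟩ := exists_ne (1 : A)
    exact ha (d.sigma_fpf a (hψinj (Units.ext (by rw [hψs, h]; rfl))))
  haveI := Fact.mk d.hp
  haveI : CharP R p := charP_of_card_eq_prime_pow hcard
  have hφe : φ e = 1 := φ₀.injective (by rw [AddEquiv.apply_symm_apply]; rfl)
  refine ⟨R, inferInstance, inferInstance, φ, ψ, s, hcard, hψinj, fun a v => φ₀.injective ?_, hφT, hψs, hφe,
    hsq, ?_, fun x => ⟨fun hx => ?_, fun hx => ?_⟩⟩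
  · rw [AddEquiv.apply_symm_apply, hφ₀, Subring.coe_mul, hψ, mul_apply', ← hφ₀, AddEquiv.apply_symm_apply]
  · haveI := Fact.mk d.hq
    exact orderOf_eq_prime hsq hsne
  · obtain ⟨k, hk⟩ := d.fixed_eq he hTe (v := φ₀ x) (φ.injective (by rw [hφT, show φ (φ₀ x) = x from φ₀.symm_apply_apply x, hx]))
    have : x = (k : R) := by
      rw [← φ₀.symm_apply_apply x, hk, map_nsmul, show φ₀.symm e = 1 from hφe, nsmul_one]
    rw [this, ← frobenius_def, map_natCast]
  · have hm : x ∈ (⊥ : Subfield R) := (Subfield.mem_bot_iff_pow_eq_self R p).mpr hx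
    have hle : (⊥ : Subfield R) ≤ (s : R →+* R).eqLocusField (RingHom.id R) := bot_le
    exact hle hm

/-- In the irreducible case `A` has no fixed vector. -/
theorem galois_fpf (d : LinearData p q ρ σ T) (hgal : IsGaloisAction ρ) {a : A} (ha : a ≠ 1) {v : V}
    (hv : ρ a v = v) : v = 0 := by
  let W : AddSubgroup V :=
    { carrier := {w | ρ a w = w}
      zero_mem' := map_zero (ρ a)
      add_mem' := fun {x y} hx hy => (map_add (ρ a) x y).trans (congrArg₂ (· + ·) hx hy)
      neg_mem' := fun {x} hx => (map_neg (ρ a) x).trans (congrArg Neg.neg hx) }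
  rcases hgal W (fun b w hw => by
    show ρ a (ρ b w) = ρ b w
    rw [← rho_mul_apply, mul_comm, rho_mul_apply, show ρ a w = w from hw]) with h | h
  · exact (AddSubgroup.mem_bot).mp (h.le (show v ∈ W from hv))
  · refine absurd (d.inj ?_) ha
    rw [map_one]
    exact AddMonoidHom.ext fun w => (h.ge (AddSubgroup.mem_top w) : ρ a w = w)

/-- In the irreducible case `A` has no fixed point on the dual group either. -/
theorem galois_dual_fpf (d : LinearData p q ρ σ T) (hgal : IsGaloisAction ρ) {a : A} (ha : a ≠ 1)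
    {X : Type*} [AddCommGroup X] {θ : V →+ X} (hθ : ∀ v, θ (ρ a v) = θ v) : θ = 0 := by
  have hinj : Function.Injective fun v => ρ a v - v := fun v w h => sub_eq_zero.mp (d.galois_fpf hgal ha (by
    have h' : ρ a v - v = ρ a w - w := h
    rw [map_sub, sub_eq_sub_iff_sub_eq_sub.mp h']))
  refine AddMonoidHom.ext fun v => ?_
  obtain ⟨w, rfl⟩ := (Finite.injective_iff_surjective.mp hinj) v
  show θ (ρ a w - w) = 0
  rw [map_sub, hθ, sub_self]

theorem galois_cyclic (d : LinearData p q ρ σ T) (hgal : IsGaloisAction ρ) : IsCyclic A := by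
  obtain ⟨e, he, hTe⟩ := d.exists_fixed
  obtain ⟨F, _, _, φ, ψ, s, -, hinj, -⟩ := d.exists_field hgal he hTe
  exact isCyclic_of_subgroup_isDomain ((Units.coeHom F).comp ψ) fun a b h => hinj (Units.ext h)

/-- In the irreducible case `|A|` is prime to `p - 1` and divides `(p ^ q - 1) / (p - 1)`. -/
theorem galois_card (d : LinearData p q ρ σ T) (hgal : IsGaloisAction ρ) :
    (Nat.card A).Coprime (p - 1) ∧ Nat.card A ∣ (p ^ q - 1) / (p - 1) := by
  obtain ⟨e, he, hTe⟩ := d.exists_fixed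
  obtain ⟨F, _, _, φ, ψ, s, hcard, hinj, -, -, hψs, -, -, -, hfix⟩ := d.exists_field hgal he hTe
  have h1 : (Nat.card A).Coprime (p - 1) := Nat.coprime_of_dvd fun r hr hrA hrp => by
    haveI := Fact.mk hr
    obtain ⟨a, ha⟩ := exists_prime_orderOf_dvd_card' r hrA
    refine hr.ne_one (ha ▸ orderOf_eq_one_iff.mpr (d.sigma_fpf a (hinj (Units.ext ?_))))
    rw [hψs, hfix]
    have h : (ψ a : F) ^ (p - 1) = 1 := by
      rw [← Units.val_pow_eq_pow_val, ← map_pow, orderOf_dvd_iff_pow_eq_one.mp (ha ▸ hrp : orderOf a ∣ p - 1),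
        map_one, Units.val_one]
    conv_lhs => rw [← Nat.sub_add_cancel d.hp.one_le, pow_succ, h, one_mul]
  have h2 : Nat.card A ∣ p ^ q - 1 := by
    refine (Subgroup.card_dvd_of_injective ψ hinj).trans ?_
    rw [Nat.card_units, Nat.card_eq_fintype_card, hcard]
  refine ⟨h1, h1.dvd_of_dvd_mul_right ?_⟩
  have hd := Nat.sub_dvd_pow_sub_pow p 1 q
  rw [one_pow] at hd
  rwa [Nat.div_mul_cancel hd]

/-- In the irreducible case every divisor of `|A|` is `1` modulo `q`. -/
theorem galois_dvd_mod (d : LinearData p q ρ σ T) (hgal : IsGaloisAction ρ) {r : ℕ} (hr : r ∣ Nat.card A) :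
    r % q = 1 := by
  haveI := d.galois_cyclic hgal
  have hcard := Subgroup.card_eq_iff_eq_top (G := A)
  let B : Subgroup A := (powMonoidHom (Nat.card A / r) : A →* A).range
  have hB : Nat.card B = r := by
    rw [IsCyclic.card_powMonoidHom_range, Nat.gcd_eq_right (Nat.div_dvd_of_dvd hr), Nat.div_div_self hr Nat.card_pos.ne']
  rw [← hB]
  refine d.card_subgroup_mod B ?_
  rintro _ ⟨b, rfl⟩
  exact ⟨σ b, (map_pow σ b _).symm⟩

theorem card_sup_add {X : Type*} [AddCommGroup X] {W L : AddSubgroup X} (h : W ⊓ L = ⊥) :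
    Nat.card ↥(W ⊔ L) = Nat.card W * Nat.card L := by
  rw [← Nat.card_prod]
  refine (Nat.card_congr (Equiv.ofBijective
    (fun x : W × L => (⟨x.1 + x.2, AddSubgroup.add_mem_sup x.1.2 x.2.2⟩ : ↥(W ⊔ L))) ⟨fun x y hxy => ?_, ?_⟩)).symm
  · have h' : (x.1 : X) + x.2 = y.1 + y.2 := congrArg Subtype.val hxy
    have h1 : (x.1 : X) - y.1 = (y.2 : X) - x.2 := by
      rw [sub_eq_sub_iff_add_eq_add, h', add_comm]
    have hm : (x.1 : X) - y.1 ∈ W ⊓ L := ⟨W.sub_mem x.1.2 y.1.2, h1 ▸ L.sub_mem y.2.2 x.2.2⟩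
    rw [h, AddSubgroup.mem_bot, sub_eq_zero] at hm
    rw [hm] at h'
    exact Prod.ext (Subtype.ext hm) (Subtype.ext (add_left_cancel h'))
  · rintro ⟨z, hz⟩
    obtain ⟨a, ha, b, hb, rfl⟩ := AddSubgroup.mem_sup.mp hz
    exact ⟨(⟨a, ha⟩, ⟨b, hb⟩), rfl⟩

/-- In the reducible case `V` is the sum of `q` lines with distinct characters, permuted by `T`. -/
theorem exists_lines (d : LinearData p q ρ σ T) (hgal : ¬ IsGaloisAction ρ) :
    ∃ (h : V) (lam : A →* (ZMod p)ˣ),
      Function.Bijective (fun c : Fin q → ZMod p => ∑ i, (c i).val • (T ^ (i : ℕ)) h) ∧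
      (∀ (a : A) (i : ℕ), ρ a ((T ^ i) h) = (lam ((σ ^ i)⁻¹ a) : ZMod p).val • (T ^ i) h) ∧
      (∀ i j : Fin q, (∀ a, lam ((σ ^ (i : ℕ))⁻¹ a) = lam ((σ ^ (j : ℕ))⁻¹ a)) → i = j) := by
  classical
  haveI := Fact.mk d.hp
  obtain ⟨W₀, hW₀, hW₀b, hW₀t⟩ : ∃ W : AddSubgroup V, (∀ a, ∀ v ∈ W, ρ a v ∈ W) ∧ W ≠ ⊥ ∧ W ≠ ⊤ := by
    simp only [IsGaloisAction, not_forall, not_or] at hgal
    obtain ⟨W, h1, h2, h3⟩ := hgal
    exact ⟨W, h1, h2, h3⟩
  obtain ⟨S, hSW, ⟨hS, hSb⟩, hmin⟩ := (Set.toFinite {W : AddSubgroup V | (∀ a, ∀ v ∈ W, ρ a v ∈ W) ∧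
    W ≠ ⊥}).exists_le_minimal (show W₀ ∈ _ from ⟨hW₀, hW₀b⟩)
  have hSt : S ≠ ⊤ := fun h => hW₀t (top_le_iff.mp (h.ge.trans hSW))
  let L : ℕ → AddSubgroup V := fun i => S.map ((T ^ i : AddMonoid.End V) : V →+ V)
  have hinvc : ∀ i a, (σ ^ i) ((σ ^ i)⁻¹ a) = a := fun i a => by
    rw [← MulAut.mul_apply, mul_inv_cancel, MulAut.one_apply]
  have hLinv : ∀ i a, ∀ v ∈ L i, ρ a v ∈ L i := by
    rintro i a _ ⟨w, hw, rfl⟩
    refine ⟨ρ ((σ ^ i)⁻¹ a) w, hS _ w hw, ?_⟩
    show (T ^ i) (ρ _ w) = _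
    rw [d.twist_pow, hinvc]
    rfl
  have hLmin : ∀ i (W : AddSubgroup V), (∀ a, ∀ v ∈ W, ρ a v ∈ W) → W ≤ L i → W = ⊥ ∨ W = L i := by
    intro i W hW hWL
    let W' : AddSubgroup V := W.comap ((T ^ i : AddMonoid.End V) : V →+ V) ⊓ S
    have hW' : ∀ a, ∀ v ∈ W', ρ a v ∈ W' := fun a v hv => ⟨by
      show (T ^ i) (ρ a v) ∈ W
      rw [d.twist_pow]
      exact hW _ _ hv.1, hS a v hv.2⟩
    by_cases hb : W' = ⊥
    · refine Or.inl ((AddSubgroup.eq_bot_iff_forall W).mpr fun x hx => ?_)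
      obtain ⟨w, hw, rfl⟩ := hWL hx
      have : w ∈ W' := ⟨hx, hw⟩
      rw [hb, AddSubgroup.mem_bot] at this
      rw [this]
      exact map_zero (T ^ i)
    · refine Or.inr (le_antisymm hWL ?_)
      rintro _ ⟨w, hw, rfl⟩
      exact (hmin ⟨hW', hb⟩ inf_le_right hw).1
  have hLcard : ∀ i, Nat.card (L i) = Nat.card S := fun i =>
    (Nat.card_congr (S.equivMapOfInjective _ (d.T_pow_injective i)).toEquiv).symm
  let acc : ℕ → AddSubgroup V := fun n => ⨆ i ∈ Finset.range n, L i
  have haccinv : ∀ n a, ∀ v ∈ acc n, ρ a v ∈ acc n := fun n a v hv => by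
    have : acc n ≤ (acc n).comap (ρ a : V →+ V) := iSup₂_le fun i hi x hx =>
      le_iSup₂ (f := fun i (_ : i ∈ Finset.range n) => L i) i hi (hLinv i a x hx)
    exact this hv
  have haccsucc : ∀ n, acc (n + 1) = acc n ⊔ L n := fun n => by
    show ⨆ i ∈ Finset.range (n + 1), L i = _
    rw [Finset.range_add_one, Finset.iSup_insert, sup_comm]
  have hpow : ∀ n, ∃ m, Nat.card (acc n) = Nat.card S ^ m := by
    intro n
    induction n with
    | zero => exact ⟨0, by simp [acc]⟩
    | succ n ih =>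
      obtain ⟨m, hm⟩ := ih
      rw [haccsucc]
      rcases hLmin n (acc n ⊓ L n) (fun a v hv => ⟨haccinv n a v hv.1, hLinv n a v hv.2⟩) inf_le_right with h | h
      · exact ⟨m + 1, by rw [card_sup_add h, hm, hLcard, pow_succ]⟩
      · exact ⟨m, by rw [sup_eq_left.mpr (inf_eq_right.mp h), hm]⟩
  have hLT : ∀ i, ∀ x ∈ L i, x ∈ acc q := by
    intro i x hx
    refine le_iSup₂ (f := fun i (_ : i ∈ Finset.range q) => L i) (i % q) (Finset.mem_range.mpr (Nat.mod_lt _ d.hq.pos)) ?_
    show x ∈ S.map ((T ^ (i % q) : AddMonoid.End V) : V →+ V)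
    rwa [← pow_eq_pow_mod i d.T_pow]
  have htop : acc q = ⊤ := by
    refine (d.irred (acc q) (haccinv q) fun v hv => ?_).resolve_left fun h => hSb ?_
    · have hle : acc q ≤ (acc q).comap (T : V →+ V) := iSup₂_le fun i _ x hx => by
        obtain ⟨w, hw, rfl⟩ := hx
        exact hLT (i + 1) _ ⟨w, hw, by rw [pow_succ']; rfl⟩
      exact hle hv
    · refine (AddSubgroup.eq_bot_iff_forall S).mpr fun x hx => (AddSubgroup.mem_bot).mp ?_
      rw [← h]
      exact hLT 0 x ⟨x, hx, rfl⟩
  obtain ⟨m, hm⟩ := hpow q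
  rw [htop, AddSubgroup.card_top, d.card] at hm
  obtain ⟨e, he, hSe⟩ := (Nat.dvd_prime_pow d.hp).mp (d.card ▸ AddSubgroup.card_addSubgroup_dvd_card S)
  have hSp : Nat.card S = p := by
    rw [hSe, ← pow_mul] at hm
    rcases (Nat.dvd_prime d.hq).mp (Dvd.intro m (Nat.pow_right_injective d.hp.two_le hm).symm) with h | h
    · rw [hSe, h, pow_one]
    · exact absurd (AddSubgroup.eq_top_of_card_eq S (by rw [hSe, h, d.card])) hSt
  obtain ⟨h, hh, hh0⟩ : ∃ h ∈ S, h ≠ 0 := by
    by_contra hcon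
    push Not at hcon
    exact hSb ((AddSubgroup.eq_bot_iff_forall S).mpr hcon)
  have hord : addOrderOf h = p := (d.hp.eq_one_or_self_of_dvd _
    (addOrderOf_dvd_of_nsmul_eq_zero (d.exp h))).resolve_left fun e => hh0 (AddMonoid.addOrderOf_eq_one_iff.mp e)
  have hinj : ∀ x y : ZMod p, x.val • h = y.val • h → x = y := fun x y hxy => by
    rw [nsmul_eq_nsmul_iff_modEq, hord] at hxy
    rw [← ZMod.natCast_zmod_val x, ← ZMod.natCast_zmod_val y]
    exact (ZMod.natCast_eq_natCast_iff _ _ _).mpr hxy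
  have hspan : ∀ x ∈ S, ∃ c : ZMod p, x = c.val • h := fun x hx => by
    have hb : Function.Bijective fun c : ZMod p => (⟨c.val • h, S.nsmul_mem hh _⟩ : S) :=
      (Nat.bijective_iff_injective_and_card _).mpr ⟨fun a b e => hinj a b (congrArg Subtype.val e),
        by rw [Nat.card_zmod, hSp]⟩
    obtain ⟨c, hc⟩ := hb.2 ⟨x, hx⟩
    exact ⟨c, (congrArg Subtype.val hc).symm⟩
  choose lc hlc using fun a : A => hspan (ρ a h) (hS a h hh)
  let lam₀ : A →* ZMod p :=
    { toFun := lc
      map_one' := hinj _ _ (by rw [← hlc, rho_one_apply, ZMod.val_one, one_nsmul])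
      map_mul' := fun a b => hinj _ _ (by
        rw [← hlc, rho_mul_apply, hlc b, map_nsmul, hlc a, ← mul_nsmul']
        refine (nsmul_eq_nsmul_iff_modEq).mpr ?_
        rw [hord, ← ZMod.natCast_eq_natCast_iff, Nat.cast_mul, ZMod.natCast_zmod_val, ZMod.natCast_zmod_val,
          ZMod.natCast_zmod_val, mul_comm]) }
  let lam : A →* (ZMod p)ˣ := lam₀.toHomUnits
  have hact : ∀ (a : A) (i : ℕ), ρ a ((T ^ i) h) = (lam ((σ ^ i)⁻¹ a) : ZMod p).val • (T ^ i) h := by
    intro a i
    conv_lhs => rw [← hinvc i a]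
    rw [← d.twist_pow, ← map_nsmul]
    exact congrArg _ (hlc _)
  refine ⟨h, lam, ?_, hact, fun i j hij => ?_⟩
  · have hsurj : Function.Surjective fun c : Fin q → ZMod p => ∑ i, (c i).val • (T ^ (i : ℕ)) h := by
      let f : (Fin q → ZMod p) →+ V :=
        { toFun := fun c => ∑ i, (c i).val • (T ^ (i : ℕ)) h
          map_zero' := by simp
          map_add' := fun c c' => by
            rw [← Finset.sum_add_distrib]
            refine Finset.sum_congr rfl fun i _ => ?_
            rw [← add_nsmul]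
            refine nsmul_eq_nsmul_iff_modEq.mpr (Nat.ModEq.of_dvd (addOrderOf_dvd_of_nsmul_eq_zero (d.exp _)) ?_)
            rw [← ZMod.natCast_eq_natCast_iff, Nat.cast_add, ZMod.natCast_zmod_val, ZMod.natCast_zmod_val,
              ZMod.natCast_zmod_val]
            rfl }
      refine AddMonoidHom.range_eq_top.mp (top_le_iff.mp (htop.ge.trans (iSup₂_le fun i hi => ?_)) : f.range = ⊤)
      rintro _ ⟨x, hx, rfl⟩
      obtain ⟨c, rfl⟩ := hspan x hx
      refine ⟨Pi.single ⟨i, Finset.mem_range.mp hi⟩ c, ?_⟩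
      show (∑ k : Fin q, ((Pi.single ⟨i, Finset.mem_range.mp hi⟩ c : Fin q → ZMod p) k).val • (T ^ (k : ℕ)) h) =
        (T ^ i) (c.val • h)
      rw [Finset.sum_eq_single ⟨i, Finset.mem_range.mp hi⟩ (fun k _ hk => by rw [Pi.single_eq_of_ne hk, ZMod.val_zero, zero_nsmul])
        (fun hk => absurd (Finset.mem_univ _) hk), Pi.single_eq_same, map_nsmul]
    haveI := Fintype.ofFinite V
    exact (Nat.bijective_iff_surjective_and_card _).mpr ⟨hsurj, by
      rw [Nat.card_fun, Nat.card_zmod, Nat.card_fin, d.card]⟩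
  · by_contra hne'
    obtain ⟨n, hn0, hnq, hn⟩ : ∃ n, 0 < n ∧ n < q ∧ ∀ b, lam ((σ ^ n) b) = lam b := by
      rcases lt_or_gt_of_ne (fun e => hne' (Fin.ext e) : (i : ℕ) ≠ j) with hlt | hlt
      · refine ⟨j - i, by omega, by omega, fun b => ?_⟩
        have := hij ((σ ^ (j : ℕ)) b)
        rw [← MulAut.mul_apply, ← MulAut.mul_apply, inv_mul_cancel, MulAut.one_apply] at this
        rw [← this, show (σ ^ (j : ℕ)) = σ ^ (i : ℕ) * σ ^ ((j : ℕ) - i) by rw [← pow_add]; congr 1; omega,
          inv_mul_cancel_left]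
      · refine ⟨i - j, by omega, by omega, fun b => ?_⟩
        have := hij ((σ ^ (i : ℕ)) b)
        rw [← MulAut.mul_apply, ← MulAut.mul_apply, inv_mul_cancel, MulAut.one_apply] at this
        rw [this, show (σ ^ (i : ℕ)) = σ ^ (j : ℕ) * σ ^ ((i : ℕ) - j) by rw [← pow_add]; congr 1; omega,
          inv_mul_cancel_left]
    have hmul : ∀ k b, lam ((σ ^ (n * k)) b) = lam b := by
      intro k
      induction k with
      | zero => exact fun b => rfl
      | succ k ih => exact fun b => by rw [Nat.mul_succ, pow_add, MulAut.mul_apply, ih, hn]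
    obtain ⟨k, -, hk⟩ := Nat.exists_mul_mod_eq_one_of_coprime
      ((Nat.coprime_of_lt_prime hn0.ne' hnq d.hq).symm) d.hq.one_lt
    have hone : ∀ b, lam (σ b) = lam b := fun b => by
      have := hmul k b
      rwa [pow_eq_pow_mod _ d.sigma_pow, hk, pow_one] at this
    have hsurj : Function.Surjective fun b => σ b / b := Finite.injective_iff_surjective.mp fun x y e => by
      have e' : σ x / x = σ y / y := e
      refine div_eq_one.mp (d.sigma_fpf _ ?_)
      rw [map_div, div_eq_div_iff_div_eq_div.mp e']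
    have hlam1 : ∀ a, lam a = 1 := fun a => by
      obtain ⟨b, rfl⟩ := hsurj a
      rw [map_div, hone, div_self']
    have := d.nontriv
    obtain ⟨a, ha⟩ := exists_ne (1 : A)
    refine ha (d.inj ?_)
    rw [map_one]
    refine AddMonoidHom.ext fun x => ?_
    let Z : AddSubgroup V :=
      { carrier := {w | ρ a w = w}
        zero_mem' := map_zero (ρ a)
        add_mem' := fun {x y} hx hy => (map_add (ρ a) x y).trans (congrArg₂ (· + ·) hx hy)
        neg_mem' := fun {x} hx => (map_neg (ρ a) x).trans (congrArg Neg.neg hx) }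
    have hZ : acc q ≤ Z := iSup₂_le fun i _ => by
      rintro _ ⟨x, hx, rfl⟩
      obtain ⟨c, rfl⟩ := hspan x hx
      show ρ a ((T ^ i) (c.val • h)) = (T ^ i) (c.val • h)
      rw [map_nsmul, map_nsmul, hact, hlam1, Units.val_one, ZMod.val_one, one_nsmul]
    exact hZ (htop.ge (AddSubgroup.mem_top x))

end LinearData

/-- The coordinates of the reducible case: `h`, the character `lam`, and their basic properties. -/
structure IsLineBasis (p q : ℕ) (ρ : A →* AddMonoid.End V) (σ : MulAut A) (T : AddMonoid.End V) (h : V)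
    (lam : A →* (ZMod p)ˣ) : Prop where
  bij : Function.Bijective (fun c : Fin q → ZMod p => ∑ i, (c i).val • (T ^ (i : ℕ)) h)
  act : ∀ (a : A) (i : ℕ), ρ a ((T ^ i) h) = (lam ((σ ^ i)⁻¹ a) : ZMod p).val • (T ^ i) h
  distinct : ∀ i j : Fin q, (∀ a, lam ((σ ^ (i : ℕ))⁻¹ a) = lam ((σ ^ (j : ℕ))⁻¹ a)) → i = j

theorem LinearData.exists_lineBasis (d : LinearData p q ρ σ T) (hgal : ¬ IsGaloisAction ρ) :
    ∃ h lam, IsLineBasis p q ρ σ T h lam := by
  obtain ⟨h, lam, h1, h2, h3⟩ := d.exists_lines hgal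
  exact ⟨h, lam, h1, h2, h3⟩

theorem LinearData.val_mul_nsmul (d : LinearData p q ρ σ T) (x y : ZMod p) (v : V) :
    (x * y).val • v = x.val • y.val • v := by
  rw [← mul_nsmul']
  refine nsmul_eq_nsmul_iff_modEq.mpr (Nat.ModEq.of_dvd (addOrderOf_dvd_of_nsmul_eq_zero (d.exp _)) ?_)
  rw [ZMod.val_mul]
  exact Nat.mod_modEq _ _

namespace IsLineBasis

variable {h : V} {lam : A →* (ZMod p)ˣ}

theorem line_ne_zero (L : IsLineBasis p q ρ σ T h lam) (d : LinearData p q ρ σ T) (i : Fin q) :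
    (T ^ (i : ℕ)) h ≠ 0 := fun hz => by
  haveI := Fact.mk d.hp
  have := congrFun (L.bij.1 (a₁ := Pi.single i 1) (a₂ := 0) ?_) i
  · simp at this
  · show ∑ k, ((Pi.single i 1 : Fin q → ZMod p) k).val • (T ^ (k : ℕ)) h =
      ∑ k, ((0 : Fin q → ZMod p) k).val • (T ^ (k : ℕ)) h
    refine Finset.sum_congr rfl fun k _ => ?_
    rcases eq_or_ne k i with rfl | hk
    · rw [hz, smul_zero, smul_zero]
    · rw [Pi.single_eq_of_ne hk, Pi.zero_apply]

theorem apply_sum (L : IsLineBasis p q ρ σ T h lam) (d : LinearData p q ρ σ T) (a : A) (c : Fin q → ZMod p) :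
    ρ a (∑ i, (c i).val • (T ^ (i : ℕ)) h) =
      ∑ i, (c i * (lam ((σ ^ (i : ℕ))⁻¹ a) : ZMod p)).val • (T ^ (i : ℕ)) h := by
  rw [map_sum]
  exact Finset.sum_congr rfl fun i _ => by rw [map_nsmul, L.act, d.val_mul_nsmul]

/-- The characters of the lines have trivial common kernel. -/
theorem eq_one_of_forall (L : IsLineBasis p q ρ σ T h lam) (d : LinearData p q ρ σ T) {a : A}
    (ha : ∀ i < q, lam ((σ ^ i)⁻¹ a) = 1) : a = 1 := by
  refine d.inj ?_
  rw [map_one]
  refine AddMonoidHom.ext fun v => ?_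
  obtain ⟨c, rfl⟩ := L.bij.2 v
  show ρ a _ = _
  rw [L.apply_sum d]
  exact Finset.sum_congr rfl fun i _ => by rw [ha _ i.2, Units.val_one, mul_one]

theorem prod_eq_one (_L : IsLineBasis p q ρ σ T h lam) (d : LinearData p q ρ σ T) (a : A) :
    ∏ i ∈ Finset.range q, lam ((σ ^ i)⁻¹ a) = 1 := by
  rw [← map_prod]
  refine (congrArg lam ?_).trans (map_one lam)
  rw [← d.prod_orbit (σ a)]
  refine Eq.trans ?_ (Finset.prod_range_reflect (fun i => (σ ^ i) (σ a)) q)
  refine Finset.prod_congr rfl fun i hi => ?_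
  rw [← MulAut.mul_apply, ← pow_succ]
  have hi' := Finset.mem_range.mp hi
  have : σ ^ (q - 1 - i + 1) = (σ ^ i)⁻¹ := eq_inv_of_mul_eq_one_left (by
    rw [← pow_add, show q - 1 - i + 1 + i = q by omega, d.sigma_pow])
  rw [this]

/-- A vector with all coordinates nonzero has trivial stabiliser. -/
theorem regular (L : IsLineBasis p q ρ σ T h lam) (d : LinearData p q ρ σ T) {a : A} {c : Fin q → ZMod p}
    (hc : ∀ i, c i ≠ 0)
    (ha : ρ a (∑ i, (c i).val • (T ^ (i : ℕ)) h) = ∑ i, (c i).val • (T ^ (i : ℕ)) h) : a = 1 := by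
  haveI := Fact.mk d.hp
  rw [L.apply_sum d] at ha
  refine L.eq_one_of_forall d fun i hi => Units.ext ?_
  have := congrFun (L.bij.1 ha) ⟨i, hi⟩
  rw [mul_eq_left₀ (hc _)] at this
  exact this

/-- A homomorphism that is nonzero on every line has trivial stabiliser. -/
theorem dual_regular (L : IsLineBasis p q ρ σ T h lam) (d : LinearData p q ρ σ T) {a : A} {X : Type*}
    [AddCommGroup X] {θ : V →+ X} (hθ : ∀ i < q, θ ((T ^ i) h) ≠ 0) (ha : ∀ v, θ (ρ a v) = θ v) : a = 1 := by
  haveI := Fact.mk d.hp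
  refine L.eq_one_of_forall d fun i hi => Units.ext ?_
  have hord : addOrderOf (θ ((T ^ i) h)) = p := addOrderOf_eq_prime (by rw [← map_nsmul, d.exp, map_zero]) (hθ i hi)
  have := ha ((T ^ i) h)
  rw [L.act, map_nsmul] at this
  nth_rewrite 2 [← one_nsmul (θ ((T ^ i) h))] at this
  rw [nsmul_eq_nsmul_iff_modEq, hord, ← ZMod.natCast_eq_natCast_iff, ZMod.natCast_zmod_val, Nat.cast_one] at this
  exact this

theorem range_dvd (_L : IsLineBasis p q ρ σ T h lam) (d : LinearData p q ρ σ T) :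
    Nat.card lam.range ∣ p - 1 := by
  haveI := Fact.mk d.hp
  exact (Subgroup.card_subgroup_dvd_card _).trans (by rw [Nat.card_units, Nat.card_zmod])

theorem range_dvd_card (_L : IsLineBasis p q ρ σ T h lam) : Nat.card lam.range ∣ Nat.card A :=
  Subgroup.card_range_dvd lam

theorem pow_range_card (L : IsLineBasis p q ρ σ T h lam) (d : LinearData p q ρ σ T) (a : A) :
    a ^ Nat.card lam.range = 1 := by
  refine L.eq_one_of_forall d fun i _ => ?_
  rw [map_pow, map_pow]
  exact congrArg Subtype.val (pow_card_eq_one' (x := (⟨_, _, rfl⟩ : lam.range)))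

/-- `|A|` divides `a ^ (q - 1)`, where `a` is the order of a line character. -/
theorem card_dvd (L : IsLineBasis p q ρ σ T h lam) (d : LinearData p q ρ σ T) :
    Nat.card A ∣ Nat.card lam.range ^ (q - 1) := by
  let f : A →* (Fin (q - 1) → lam.range) :=
    { toFun := fun a i => ⟨lam ((σ ^ (i : ℕ))⁻¹ a), _, rfl⟩
      map_one' := funext fun i => Subtype.ext (by simp)
      map_mul' := fun a b => funext fun i => Subtype.ext (by simp) }
  have hf : Function.Injective f := (injective_iff_map_eq_one f).mpr fun a ha => by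
    have hlow : ∀ i < q - 1, lam ((σ ^ i)⁻¹ a) = 1 := fun i hi =>
      congrArg Subtype.val (congrFun ha ⟨i, hi⟩)
    refine L.eq_one_of_forall d fun i hi => ?_
    rcases Nat.lt_or_ge i (q - 1) with hlt | hge
    · exact hlow i hlt
    · have h1 := L.prod_eq_one d a
      rw [show q = q - 1 + 1 by omega, Finset.prod_range_succ,
        Finset.prod_eq_one fun k hk => hlow k (Finset.mem_range.mp hk), one_mul] at h1
      rwa [show i = q - 1 by omega]
  have := Subgroup.card_dvd_of_injective f hf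
  rwa [Nat.card_fun, Nat.card_fin] at this

theorem one_lt_range (L : IsLineBasis p q ρ σ T h lam) (d : LinearData p q ρ σ T) :
    1 < Nat.card lam.range := by
  by_contra hle
  have h1 : Nat.card lam.range = 1 := by have := Nat.card_pos (α := lam.range); omega
  haveI := d.nontriv
  obtain ⟨a, ha⟩ := exists_ne (1 : A)
  have := L.pow_range_card d a
  rw [h1, pow_one] at this
  exact ha this

theorem range_odd (L : IsLineBasis p q ρ σ T h lam) (d : LinearData p q ρ σ T) (hodd : Odd (Nat.card A)) :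
    Odd (Nat.card lam.range) ∧ 3 ≤ Nat.card lam.range ∧ (Odd p → 2 * Nat.card lam.range ∣ p - 1) := by
  have h1 : Odd (Nat.card lam.range) := hodd.of_dvd_nat L.range_dvd_card
  have h2 := L.one_lt_range d
  refine ⟨h1, ?_, fun hp => ?_⟩
  · obtain ⟨k, hk⟩ := h1
    omega
  · exact (Nat.coprime_two_left.mpr h1).mul_dvd_of_dvd_of_dvd
      (by obtain ⟨k, hk⟩ := hp; omega) (L.range_dvd d)

end IsLineBasis

namespace LinearData

theorem one_lt_card (d : LinearData p q ρ σ T) : 1 < Nat.card A := by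
  haveI := d.nontriv
  exact Finite.one_lt_card

theorem q_lt_card (d : LinearData p q ρ σ T) : q < Nat.card A := by
  have h1 := d.card_mod
  have h2 := d.one_lt_card
  have h3 := Nat.div_add_mod (Nat.card A) q
  rcases Nat.eq_zero_or_pos (Nat.card A / q) with h0 | h0
  · rw [h0, h1] at h3
    omega
  · have := Nat.le_mul_of_pos_right q h0
    omega

theorem card_lt_of_not_galois (d : LinearData p q ρ σ T) (hgal : ¬ IsGaloisAction ρ) :
    Nat.card A < p ^ (q - 1) := by
  obtain ⟨h, lam, L⟩ := d.exists_lineBasis hgal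
  have h1 := L.range_dvd d
  have h2 := d.hp.two_le
  have h3 : Nat.card lam.range ≤ p - 1 := Nat.le_of_dvd (by omega) h1
  refine lt_of_le_of_lt (Nat.le_of_dvd (pow_pos Nat.card_pos _) (L.card_dvd d)) ?_
  exact Nat.pow_lt_pow_left (by omega) (by have := d.hq.two_le; omega)

/-- The bound `|A| ≤ (p ^ q - 1) / (p - 1)`. -/
theorem card_le (d : LinearData p q ρ σ T) : Nat.card A ≤ (p ^ q - 1) / (p - 1) := by
  have hp := d.hp.two_le
  have hle : p ^ (q - 1) ≤ (p ^ q - 1) / (p - 1) := by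
    rw [Nat.le_div_iff_mul_le (by omega), Nat.mul_sub, mul_one, ← pow_succ, Nat.sub_add_cancel d.hq.one_le]
    exact Nat.sub_le_sub_left (Nat.one_le_pow _ _ (by omega)) _
  by_cases hgal : IsGaloisAction ρ
  · refine Nat.le_of_dvd ?_ (d.galois_card hgal).2
    have := Nat.one_le_pow (q - 1) p (by omega)
    omega
  · have := d.card_lt_of_not_galois hgal
    omega

end LinearData

end CfsgLib.OddOrder.S9
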